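import Groth.Prelude.Def_EtBase
import Groth.Prelude.Def_FEt
import Mathlib.RingTheory.RegularLocalRing.Defs
import Mathlib.RingTheory.KrullDimension.Basic
import Mathlib.Data.ZMod.Defs
import Mathlib.SetTheory.Cardinal.Finite

/-!
# Interface: weak punctual purity

`PuncWeakAt ℓ A d`: the cohomology of the punctured spectrum of `A` with coefficients `ℤ/ℓ` vanishes in
positive degrees `≠ 2d - 1`, and has at most `ℓ` elements in degree `2d - 1`.
-/

set_option autoImplicit false
universe u
open CategoryTheory CategoryTheory.Limits AlgebraicGeometry Opposite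

namespace K726

/-- Weak punctual purity of one local ring `A` of dimension `d`. -/
structure PuncWeakAt (ℓ : ℕ) (A : Type u) [CommRing A] [IsLocalRing A] (d : ℕ) : Prop where
  van : ∀ q : ℕ, 0 < q → q ≠ 2 * d - 1 →
    Subsingleton (EtCoh.H (FEt.puncturedSpec A : Scheme.{u})
      (EtCoh.const (FEt.puncturedSpec A : Scheme.{u}) (ZMod ℓ)) q)
  finite : Finite (EtCoh.H (FEt.puncturedSpec A : Scheme.{u})
    (EtCoh.const (FEt.puncturedSpec A : Scheme.{u}) (ZMod ℓ)) (2 * d - 1))
  card_le : Nat.card (EtCoh.H (FEt.puncturedSpec A : Scheme.{u})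
    (EtCoh.const (FEt.puncturedSpec A : Scheme.{u}) (ZMod ℓ)) (2 * d - 1)) ≤ ℓ

/-- Weak punctual purity of all strictly henselian regular local rings of dimension at least two. -/
def PuncWeak (ℓ : ℕ) : Prop :=
  ∀ (A : Type u) [CommRing A] [IsRegularLocalRing A], EtCoh.IsStrictlyHenselianLocalRing A → IsUnit (ℓ : A) →
    ∀ d : ℕ, ringKrullDim A = d → 2 ≤ d → PuncWeakAt ℓ A d

end K726
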