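import Groth.Agent.EtDual.K726.MainA

/-!
# Weak punctual purity implies purity in codimension one

`divPure`: `PuncWeak ℓ` for all primes `ℓ` implies `K3.DivDef.DivPure n` for all `n ≥ 1`, by induction on the
dimension with the Kummer covering `A[1/t] → A'[1/s]`, `A' = A[X]/(X^ℓ - t)`.
-/

set_option autoImplicit false
set_option linter.unusedSectionVars false
universe u
open CategoryTheory CategoryTheory.Limits AlgebraicGeometry Opposite Abelian IsLocalRing
open scoped Groth.Agent.Etcore.EtInst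
open Groth.Agent.Etcore Groth.Agent.Etcore.EtInst

noncomputable section

namespace K726.Main

open Groth.Agent.Etbc.H194.Edge K726.LES Groth.Agent.Etcore.RpushLoc K726.TwoRow K726.LocSec K726.MainA
open Groth.Agent.Sga4B.ConstLC Groth.Agent K3.DivDef

/-- The full purity statement in dimension `d`. -/
structure FullAt (ℓ : ℕ) (A : Type u) [CommRing A] [IsLocalRing A] (d : ℕ) : Prop where
  div : DivPureAt ℓ A
  van : ∀ q : ℕ, 1 ≤ q → q ≠ 2 * d - 1 → ∀ x : HH (FEt.puncturedSpec A : Scheme.{u})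
    (EtCoh.const (FEt.puncturedSpec A : Scheme.{u}) (ZMod ℓ)) q, x = 0
  card : Nat.card (HH (FEt.puncturedSpec A : Scheme.{u})
    (EtCoh.const (FEt.puncturedSpec A : Scheme.{u}) (ZMod ℓ)) (2 * d - 1)) = ℓ

/-- The full purity statement in dimension `d`, for all rings. -/
def Full (ℓ d : ℕ) : Prop :=
  ∀ (A : Type u) [CommRing A] [IsRegularLocalRing A], EtCoh.IsStrictlyHenselianLocalRing A → IsUnit (ℓ : A) →
    ringKrullDim A = d → FullAt ℓ A d

section Transport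

theorem zero_of_equiv {X Y : Scheme.{u}} {F : EtCoh.Ab X} {G : EtCoh.Ab Y} {n m : ℕ} (e : HH X F n ≃+ HH Y G m)
    (h : ∀ x : HH Y G m, x = 0) (x : HH X F n) : x = 0 :=
  e.injective ((h _).trans (map_zero e).symm)

theorem locZero_of_iso {X Y : Scheme.{u}} (f : X ⟶ Y) {F G : EtCoh.Ab X} (e : F ≅ G) (q : ℕ) (hq : 1 ≤ q)
    (h : IsZero ((EtCoh.Rpush f q).obj F)) : LocZero f G q := by
  obtain ⟨q, rfl⟩ := Nat.exists_eq_add_of_le' hq
  exact (isZero_Rpush_iff f G q).1 (h.of_iso ((EtCoh.Rpush f (q + 1)).mapIso e.symm))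

theorem cancel_one (x : WithBot ℕ∞) (n : ℕ) (h : x + 1 = ((n + 1 : ℕ) : WithBot ℕ∞)) : x = (n : ℕ) := by
  induction x using WithBot.recBotCoe with
  | bot => 
    rw [WithBot.bot_add] at h
    exact absurd h.symm (WithBot.natCast_ne_bot (n + 1))
  | coe y =>
    induction y using ENat.recTopCoe with
    | top => 
      have h1 : ((⊤ : ℕ∞) : WithBot ℕ∞) + 1 = ((⊤ : ℕ∞) : WithBot ℕ∞) := rfl
      rw [h1] at h
      have h2 : (⊤ : ℕ∞) = ((n + 1 : ℕ) : ℕ∞) := by exact_mod_cast h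
      exact absurd h2.symm (ENat.natCast_ne_top _)
    | coe m => 
      have h2 : m + 1 = n + 1 := by exact_mod_cast h
      have h3 : m = n := by omega
      rw [h3]
      rfl

end Transport

section Step

variable (ℓ : ℕ) [hℓ : Fact ℓ.Prime] {A : Type u} [CommRing A] [IsRegularLocalRing A]
  (hA : EtCoh.IsStrictlyHenselianLocalRing A) (hl : IsUnit (ℓ : A)) (e : ℕ) (hd : ringKrullDim A = (e + 2 : ℕ))
  (hP : PuncWeak.{u} ℓ)
  (IH : ∀ (B : Type u) [CommRing B] [IsRegularLocalRing B], EtCoh.IsStrictlyHenselianLocalRing B → IsUnit (ℓ : B) →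
    ringKrullDim B < ringKrullDim A → DivPureAt ℓ B)
  (IH' : Full.{u} ℓ (e + 1))
  (t : A) (ht : t ∈ maximalIdeal A) (ht2 : t ∉ maximalIdeal A ^ 2)

include hA hl hd hP IH IH' ht ht2 hℓ in
theorem step : (∀ q, 2 ≤ q → ∀ x : HH (K734.Cov.V t) (L ℓ (K734.Cov.V t)) q, x = 0) ∧
    Nat.card (HH (FEt.puncturedSpec A : Scheme.{u})
      (EtCoh.const (FEt.puncturedSpec A : Scheme.{u}) (ZMod ℓ)) (2 * e + 3)) = ℓ := by
  have hl0 : 0 < ℓ := hℓ.out.pos
  have ht0 : t ≠ 0 := K734.Cov.ne_zero t ht2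
  obtain ⟨hr, hdq⟩ := CalgA.RegBasic.quotient_of_notMem_sq t ht ht2
  -- the quotient
  have hqA : EtCoh.IsStrictlyHenselianLocalRing (A ⧸ Ideal.span {t}) :=
    Etbase.QuotHens.isStrictlyHenselian_of_surjective (Ideal.Quotient.mk (Ideal.span {t}))
      Ideal.Quotient.mk_surjective hA
  have hql : IsUnit (ℓ : A ⧸ Ideal.span {t}) := by
    have h := hl.map (Ideal.Quotient.mk (Ideal.span {t}))
    rwa [map_natCast] at h
  have hqd : ringKrullDim (A ⧸ Ideal.span {t}) = (e + 1 : ℕ) := by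
    rw [hd] at hdq
    exact cancel_one _ (e + 1) hdq
  have FQ := IH' (A ⧸ Ideal.span {t}) hqA hql hqd
  -- the covering
  have hBr := K734.Root.isRegularLocalRing t ℓ hl0 ht ht2
  have hBh := K734.Root.isStrictlyHenselian t ℓ hl0 ht hA
  have hBd := K734.Root.ringKrullDim_eq t ℓ hl0 ht ht2
  have hBl : IsUnit (ℓ : K734.Root.B t ℓ) := by
    have h := hl.map (algebraMap A (K734.Root.B t ℓ))
    rwa [map_natCast] at h
  have hs := K734.Root.root_mem_maximalIdeal t ℓ hl0 ht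
  have hs2 := K734.Root.root_notMem_sq t ℓ hl0 ht ht2
  have hcV : ConnectedSpace (K734.Cov.V t) := K734.Cov.connectedSpace_V t ht2
  have hcV' : ConnectedSpace (K734.Cov.V' t ℓ) := K734.Cov.connectedSpace_V' t ℓ hl0 ht ht2
  obtain ⟨σ, ζ, hS⟩ := K734.Cov.exists_setup' t ℓ hl0 hA hl
  let Λ : Type (u + 1) := ULift.{u + 1} (ZMod ℓ)
  obtain ⟨St⟩ := KumSheaf.nonempty_str (A := Λ) hS
  have hcard : Nat.card Λ = ℓ := by rw [Nat.card_congr Equiv.ulift, Nat.card_zmod]
  -- the morphisms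
  let a : K734.Cov.V t ⟶ (FEt.puncturedSpec A : Scheme.{u}) := K3.DivPunc.aPunc t ht
  have ha : K734.Cov.incl t ht = a := by
    rw [← cancel_mono (FEt.puncturedSpec A).ι, K734.Cov.incl_ι, K3.DivPunc.aPunc_ι]
  obtain ⟨iso⟩ := nonempty_iso_X hA ℓ hl0 hl t ht ht2 (a ≫ (FEt.puncturedSpec A).ι) (K3.DivPunc.aPunc_ι t ht)
  -- the direct images
  obtain ⟨e0⟩ := K3.DivPunc.nonempty_push_aPunc t ℓ hl ht ht0
  have E0 : (EtCoh.push a).obj (L ℓ (K734.Cov.V t)) ≅
      EtCoh.const (FEt.puncturedSpec A : Scheme.{u}) (ZMod ℓ) :=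
    (EtCoh.push a).mapIso (constIso (K734.Cov.V t) (ZMod ℓ)).symm ≪≫ e0
  obtain ⟨e1⟩ := K3.DivPunc.nonempty_Rpush_one_aPunc t hA ℓ hl0 hl ht ht0
  obtain ⟨e1'⟩ := nonempty_Kc a (injSeq_shortExact (L ℓ (K734.Cov.V t)))
  have E1 : Kc a (injSeq (L ℓ (K734.Cov.V t))) ≅ (EtCoh.push (K3.DivPunc.iPunc t)).obj
      (EtCoh.const (FEt.puncturedSpec (A ⧸ Ideal.span {t}) : Scheme.{u}) (ZMod ℓ)) :=
    e1' ≪≫ (EtCoh.Rpush a 1).mapIso (constIso (K734.Cov.V t) (ZMod ℓ)).symm ≪≫ e1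
  have hK : ∀ q, Nonempty (HH (FEt.puncturedSpec A : Scheme.{u}) (Kc a (injSeq (L ℓ (K734.Cov.V t)))) q ≃+
      HH (FEt.puncturedSpec (A ⧸ Ideal.span {t}) : Scheme.{u})
        (EtCoh.const (FEt.puncturedSpec (A ⧸ Ideal.span {t}) : Scheme.{u}) (ZMod ℓ)) q) := by
    intro q
    obtain ⟨e3⟩ := nonempty_HH_of_iso E1 q
    obtain ⟨e4⟩ := K3.DivPunc.nonempty_H_push (K3.DivPunc.iPunc t)
      (EtCoh.const (FEt.puncturedSpec (A ⧸ Ideal.span {t}) : Scheme.{u}) (ZMod ℓ)) q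
    exact ⟨e3.trans e4⟩
  have hU : ∀ q, Nonempty (HH (FEt.puncturedSpec A : Scheme.{u}) ((EtCoh.push a).obj (L ℓ (K734.Cov.V t))) q ≃+
      HH (FEt.puncturedSpec A : Scheme.{u}) (EtCoh.const (FEt.puncturedSpec A : Scheme.{u}) (ZMod ℓ)) q) :=
    fun q => nonempty_HH_of_iso E0 q
  have hPA := hP A hA hl (e + 2) hd (by omega)
  have hPB := hP (K734.Root.B t ℓ) hBh hBl (e + 2) (hBd.trans hd) (by omega)
  have h23 : 2 * (e + 2) - 1 = 2 * e + 3 := by omega
  have h21 : 2 * (e + 1) - 1 = 2 * e + 1 := by omega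
  obtain ⟨u3⟩ := hU (2 * e + 3)
  have main := Core.core a (FEt.puncturedSpec A).ι (K3.PureVan.clo t) St
    (Nat.le_sub_one_of_lt hℓ.out.one_lt) ℓ hl0 e iso (eq_zero_spec hA)
    (fun q hq => locZero_of_iso a (constIso (K734.Cov.V t) (ZMod ℓ)) q (by omega)
      (K3.DivPunc.isZero_Rpush_aPunc t ℓ hl ht ht0 IH q hq))
    (by
      obtain ⟨e5⟩ := K734.Cov.nonempty_H_push_push_const t ℓ hl0 ht ht2 (ZMod ℓ) (2 * e + 2)
      rw [ha] at e5
      have h := hPB.van (2 * e + 2) (by omega) (by omega)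
      exact zero_of_equiv e5 ((subsingleton_iff _ _).1 h))
    (surjective_zero (K734.Cov.πV t ℓ) Λ)
    ((card_sect_LC (K734.Cov.V t) Λ).trans hcard)
    (card_one hA ℓ hl0 hl t ht ht2)
    (by
      obtain ⟨e6⟩ := K734.Cov.nonempty_H_push_πV t ℓ hl0 (L ℓ (K734.Cov.V' t ℓ)) 1
      exact (Nat.card_congr e6.toEquiv).trans
        (card_one hBh ℓ hl0 hBl (K734.Root.s t ℓ) hs hs2))
    (fun q hq hq2 => by
      obtain ⟨e7⟩ := hU q
      exact zero_of_equiv e7 ((subsingleton_iff _ _).1 (hPA.van q (by omega) (by omega))))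
    (fun q hq hq2 => by
      obtain ⟨e8⟩ := hK q
      exact zero_of_equiv e8 (FQ.van q hq (by omega)))
    (by
      have hf := hPA.finite
      rw [h23] at hf
      exact Finite.of_equiv _ u3.symm.toEquiv)
    (by
      have hf := hPA.card_le
      rw [h23] at hf
      exact (Nat.card_congr u3.toEquiv).le.trans hf)
    (by
      obtain ⟨e9⟩ := hK (2 * e + 1)
      have hf := FQ.card
      rw [h21] at hf
      exact (Nat.card_congr e9.toEquiv).trans hf)
  exact ⟨main.1, (Nat.card_congr u3.toEquiv).symm.trans main.2⟩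

end Step

section Final

/-- A regular local ring of positive dimension has an element of `𝔪 ∖ 𝔪²`. -/
theorem exists_notMem_sq (A : Type u) [CommRing A] [IsRegularLocalRing A] (d : ℕ)
    (hd : ringKrullDim A = (d + 1 : ℕ)) : ∃ t : A, t ∈ maximalIdeal A ∧ t ∉ maximalIdeal A ^ 2 := by
  by_contra hcon
  push Not at hcon
  have h1 : maximalIdeal A = ⊥ := by
    refine Submodule.eq_bot_of_le_smul_of_le_jacobson_bot (maximalIdeal A) (maximalIdeal A)
      (maximalIdeal A).fg_of_isNoetherianRing ?_ (maximalIdeal_le_jacobson _)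
    rw [smul_eq_mul, ← pow_two]
    exact hcon
  have h2 : IsField A := IsLocalRing.isField_iff_maximalIdeal_eq.2 h1
  have h3 := ringKrullDim_eq_zero_of_isField h2
  rw [hd] at h3
  have h4 : d + 1 = 0 := by exact_mod_cast h3
  omega

theorem dim_ne_zero {A : Type u} [CommRing A] [IsRegularLocalRing A] (t : A) (ht : t ∈ maximalIdeal A)
    (ht2 : t ∉ maximalIdeal A ^ 2) (h0 : ringKrullDim A = (0 : ℕ)) : False := by
  obtain ⟨hr, hdq⟩ := CalgA.RegBasic.quotient_of_notMem_sq t ht ht2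
  have h1 : (0 : WithBot ℕ∞) ≤ ringKrullDim (A ⧸ Ideal.span {t}) := ringKrullDim_nonneg_of_nontrivial
  rw [h0] at hdq
  have h2 : (0 : WithBot ℕ∞) + 1 ≤ ringKrullDim (A ⧸ Ideal.span {t}) + 1 := by gcongr
  rw [hdq] at h2
  exact absurd h2 (by decide)

variable (ℓ : ℕ) [hℓ : Fact ℓ.Prime]

include hℓ in
theorem full_one : Full.{u} ℓ 1 := by
  intro A _ _ hA hl hd
  have hl0 : 0 < ℓ := hℓ.out.pos
  obtain ⟨t, ht, ht2⟩ := exists_notMem_sq A 0 hd
  have hd1 : ringKrullDim A = 1 := by rw [hd]; rfl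
  have ht0 : t ≠ 0 := K734.Cov.ne_zero t ht2
  refine ⟨K734.Dev.divPureAt_of_dim_one A hA hd1 ℓ hl0.ne' hl, fun q hq hq1 => ?_, ?_⟩
  · exact (subsingleton_iff _ _).1
      (K734.DevP.subsingleton_H_puncturedSpec A hA hd1 ℓ hl0.ne' hl q (by omega))
  · have hi := K734.DevP.isIso_incl A hd1 t ht ht0
    obtain ⟨E⟩ := Groth.Agent.Etrest.HConstIso.nonempty_HConst (asIso (K734.Cov.incl t ht)).symm (ZMod ℓ) 1
    obtain ⟨E2⟩ := nonempty_HH_of_iso (constIso (K734.Cov.V t) (ZMod ℓ)) 1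
    exact (Nat.card_congr E.symm.toEquiv).trans ((Nat.card_congr E2.toEquiv).trans
      (card_one hA ℓ hl0 hl t ht ht2))

include hℓ in
theorem full (hP : PuncWeak.{u} ℓ) (d : ℕ) : Full.{u} ℓ (d + 1) := by
  induction d using Nat.strong_induction_on with
  | _ d ih =>
    obtain _ | e := d
    · exact full_one ℓ
    intro A _ _ hA hl hd
    have IH : ∀ (B : Type u) [CommRing B] [IsRegularLocalRing B], EtCoh.IsStrictlyHenselianLocalRing B →
        IsUnit (ℓ : B) → ringKrullDim B < ringKrullDim A → DivPureAt ℓ B := by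
      intro B _ _ hB hlB hlt
      have h1 := IsRegularLocalRing.spanFinrank_maximalIdeal (R := B)
      rw [← h1, hd] at hlt
      have h2 : (maximalIdeal B).spanFinrank < e + 1 + 1 := by exact_mod_cast hlt
      obtain h3 | ⟨k, h3⟩ := Nat.eq_zero_or_eq_succ_pred (maximalIdeal B).spanFinrank |>.imp id
        (fun h => (⟨_, h⟩ : ∃ k, (maximalIdeal B).spanFinrank = k + 1))
      · intro t ht ht2
        rw [h3] at h1
        exact (dim_ne_zero t ht ht2 h1.symm).elim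
      · rw [h3] at h1
        exact (ih k (by omega) B hB hlB h1.symm).div
    have IH' := ih e (by omega)
    have key := fun (t : A) ht ht2 => step ℓ hA hl e hd hP IH IH' t ht ht2
    have hPA := hP A hA hl (e + 2) hd (by omega)
    refine ⟨fun t ht ht2 q hq => ?_, fun q hq hq1 => ?_, ?_⟩
    · obtain ⟨E2⟩ := nonempty_HH_of_iso (constIso (K734.Cov.V t) (ZMod ℓ)) q
      exact (subsingleton_iff _ _).2 (zero_of_equiv E2 ((key t ht ht2).1 q hq))
    · exact (subsingleton_iff _ _).1 (hPA.van q (by omega) (by omega))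
    · obtain ⟨t, ht, ht2⟩ := exists_notMem_sq A (e + 1) hd
      have h1 := (key t ht ht2).2
      have h2 : 2 * (e + 1 + 1) - 1 = 2 * e + 3 := by omega
      rw [h2]
      exact h1

/-- **Weak punctual purity implies purity in codimension one**. -/
theorem divPure (hP : ∀ ℓ : ℕ, ℓ.Prime → PuncWeak.{u} ℓ) (n : ℕ) (hn : 0 < n) : DivPure.{u} n := by
  intro A _ _ hA hnA
  refine K734.Dev.divPureAt_of_prime A (fun ℓ hℓ hlA => ?_) n hn.ne' hnA
  have hf : Fact ℓ.Prime := ⟨hℓ⟩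
  have h1 := IsRegularLocalRing.spanFinrank_maximalIdeal (R := A)
  obtain h3 | ⟨k, h3⟩ := Nat.eq_zero_or_eq_succ_pred (maximalIdeal A).spanFinrank |>.imp id
    (fun h => (⟨_, h⟩ : ∃ k, (maximalIdeal A).spanFinrank = k + 1))
  · intro t ht ht2
    rw [h3] at h1
    exact (dim_ne_zero t ht ht2 h1.symm).elim
  · rw [h3] at h1
    exact (full ℓ (hP ℓ hℓ) k A hA hlA h1.symm).div

/-- Purity of the punctured spectrum in all positive dimensions: the cohomology is concentrated in degrees `0` and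
`2d - 1`, where it has `ℓ` elements. -/
theorem fullAt (hP : ∀ ℓ : ℕ, ℓ.Prime → PuncWeak.{u} ℓ) (ℓ : ℕ) (hℓ : ℓ.Prime) (A : Type u) [CommRing A]
    [IsRegularLocalRing A] (hA : EtCoh.IsStrictlyHenselianLocalRing A) (hl : IsUnit (ℓ : A)) (d : ℕ)
    (hd : ringKrullDim A = (d + 1 : ℕ)) : FullAt ℓ A (d + 1) :=
  have : Fact ℓ.Prime := ⟨hℓ⟩
  full ℓ (hP ℓ hℓ) d A hA hl hd

end Final

end K726.Main
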