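import Groth.Agent.EtDual.K726.JordanH
import Groth.Agent.Sga4h.KumSes250
import Groth.Agent.Sga4h.FamTau
import Groth.Agent.Sga4B.ConstLC
import Mathlib.Data.Nat.Choose.Dvd

/-!
# The push forward of a constant sheaf along a Kummer covering

For a Kummer covering `π : T ⟶ U` of prime degree `ℓ` with generator `σ` of its group, the constant sheaf `A` on
`U` is the kernel of `σ^* - 1` on `π_* A` and `(σ^* - 1)^(ℓ - 1)` is an epimorphism onto it.
-/

set_option autoImplicit false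
set_option linter.unusedSectionVars false
universe u
open CategoryTheory CategoryTheory.Limits AlgebraicGeometry Opposite

noncomputable section

namespace K726.KumSheaf

open Groth.Agent.Sga4h.KumExt250 Groth.Agent.Sga4h.KumCov250 Groth.Agent.Sga4h.KumIdx250
open Groth.Agent.Sga4B.ConstLC Groth.Agent.Sga4h Polynomial

section Fun

variable {Z : Type*} (s : Z → Z) {A : Type*} [AddCommGroup A]

/-- `f ∘ s - f`. -/
def Tf (f : Z → A) : Z → A := fun z => f (s z) - f z

theorem Tf_iterate (ℓ : ℕ) [Fact ℓ.Prime] [Module (ZMod ℓ) A] (hs : s^[ℓ] = id) (f : Z → A) :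
    (Tf s)^[ℓ] f = 0 := by
  let sL : (Z → A) →ₗ[ZMod ℓ] (Z → A) := LinearMap.funLeft (ZMod ℓ) A s
  have h1 : ∀ (k : ℕ) (f : Z → A), (Tf s)^[k] f = ((sL - 1) ^ k) f := by
    intro k
    induction k with
    | zero => intro f; rfl
    | succ k ih =>
      intro f
      rw [Function.iterate_succ_apply, ih, pow_succ]
      rfl
  have h2 : ∀ (k : ℕ) (f : Z → A), (sL ^ k) f = f ∘ s^[k] := by
    intro k
    induction k with
    | zero => intro f; rfl
    | succ k ih =>
      intro f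
      rw [pow_succ, Module.End.mul_apply, ih]
      funext z
      change f (s (s^[k] z)) = f (s^[k+1] z)
      rw [Function.iterate_succ_apply']
  have h3 : ((X - 1 : (ZMod ℓ)[X]) ^ ℓ) = X ^ ℓ - 1 := by
    have := sub_pow_char (R := (ZMod ℓ)[X]) (p := ℓ) (X : (ZMod ℓ)[X]) 1
    rwa [one_pow] at this
  have h4 := congrArg (fun P => aeval sL P) h3
  simp only [map_pow, map_sub, aeval_X, map_one] at h4
  rw [h1, h4]
  have h5 := h2 ℓ f
  rw [hs] at h5
  change (sL ^ ℓ) f - f = 0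
  rw [h5]
  exact sub_self f

end Fun

/-- The binomial functions on `ℤ/ℓ`. -/
def bk (ℓ k : ℕ) (i : ZMod ℓ) : ZMod ℓ := (i.val.choose k : ℕ)

theorem bk_zero (ℓ : ℕ) (i : ZMod ℓ) : bk ℓ 0 i = 1 := by
  rw [bk, Nat.choose_zero_right, Nat.cast_one]

theorem bk_succ (ℓ : ℕ) [hℓ : Fact ℓ.Prime] (k : ℕ) (hk : k + 1 < ℓ) (i : ZMod ℓ) :
    bk ℓ (k + 1) (i + 1) - bk ℓ (k + 1) i = bk ℓ k i := by
  have hne : NeZero ℓ := ⟨hℓ.out.ne_zero⟩
  have hi : i.val < ℓ := ZMod.val_lt i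
  have h1 : (1 : ZMod ℓ).val = 1 := ZMod.val_one ℓ
  by_cases h : i.val + 1 < ℓ
  · have h2 : (i + 1).val = i.val + 1 := by
      rw [ZMod.val_add_of_lt (by rw [h1]; exact h), h1]
    rw [bk, bk, bk, h2, Nat.choose_succ_succ, Nat.cast_add, add_sub_cancel_right]
  · have h2 : i.val + 1 = ℓ := by omega
    have h3 : i + 1 = 0 := by
      rw [← ZMod.natCast_zmod_val i, ← Nat.cast_one, ← Nat.cast_add, h2, ZMod.natCast_self]
    have h4 : ((ℓ.choose (k + 1) : ℕ) : ZMod ℓ) = 0 := by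
      rw [ZMod.natCast_eq_zero_iff]
      exact Nat.Prime.dvd_choose_self hℓ.out (Nat.succ_ne_zero k) hk
    have h5 : ℓ.choose (k + 1) = i.val.choose k + i.val.choose (k + 1) := by
      rw [← Nat.choose_succ_succ, Nat.succ_eq_add_one, h2]
    rw [h5, Nat.cast_add] at h4
    rw [bk, bk, bk, h3, ZMod.val_zero, Nat.choose_zero_succ, Nat.cast_zero, zero_sub]
    exact (eq_neg_of_add_eq_zero_left h4).symm

variable {T U : Scheme.{u}} (π : T ⟶ U) (σ : T ⟶ T) (hσ : σ ≫ π = π) (A : Type (u + 1)) [AddCommGroup A]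

/-- `π_* A`. -/
abbrev E : EtCoh.Ab U := (EtCoh.push π).obj (LC T A)

/-- Locally constant functions on `T ×_U W` as sections. -/
def toE {W : U.Etale} (φ : LocallyConstant (tW π W) A) : EtCoh.sect (E π A) W := φ

/-- Sections of `π_* A` as locally constant functions. -/
def ofE {W : U.Etale} (φ : EtCoh.sect (E π A) W) : LocallyConstant (tW π W) A := φ

/-- Locally constant functions as sections. -/
def toL {W : U.Etale} (c : LocallyConstant W.left A) : EtCoh.sect (LC U A) W := c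

/-- Sections as locally constant functions. -/
def ofL {W : U.Etale} (c : EtCoh.sect (LC U A) W) : LocallyConstant W.left A := c

/-- The map `σ^* : π_* A ⟶ π_* A`. -/
def sig : E π A ⟶ E π A :=
  ⟨{ app := fun W => AddCommGrpCat.ofHom (LocallyConstant.comapAddMonoidHom (cmap (σW π σ hσ W.unop)))
     naturality := fun W W' g => by
      ext φ
      refine LocallyConstant.ext fun t => ?_
      exact congrArg (ofE π A φ) (congrArg (fun k => k.base t) (map_σW π σ hσ g.unop)).symm }⟩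

/-- The operator `σ^* - 1`. -/
def Top : E π A ⟶ E π A := sig π σ hσ A - 𝟙 _

/-- The map `A ⟶ π_* A`. -/
abbrev v : LC U A ⟶ E π A := LCres π A

variable {π σ A}

theorem E_ext {W : U.Etale} {φ ψ : EtCoh.sect (E π A) W} (h : ∀ t, ofE π A φ t = ofE π A ψ t) :
    φ = ψ := LocallyConstant.ext h

theorem L_ext {W : U.Etale} {φ ψ : EtCoh.sect (LC U A) W} (h : ∀ t, ofL A φ t = ofL A ψ t) :
    φ = ψ := LocallyConstant.ext h

theorem ofE_res {W W' : U.Etale} (g : W' ⟶ W) (φ : EtCoh.sect (E π A) W) (t : tW π W') :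
    ofE π A ((E π A).obj.map g.op φ) t = ofE π A φ (((EtCoh.bc π).map g).left t) := rfl

theorem ofL_res {W W' : U.Etale} (g : W' ⟶ W) (c : EtCoh.sect (LC U A) W) (t : W'.left) :
    ofL A ((LC U A).obj.map g.op c) t = ofL A c (g.left t) := rfl

theorem ofE_v {W : U.Etale} (c : EtCoh.sect (LC U A) W) (t : tW π W) :
    ofE π A ((v π A).hom.app (op W) c) t = ofL A c (fstW π W t) := rfl

theorem ofE_sig {W : U.Etale} (φ : EtCoh.sect (E π A) W) (t : tW π W) :
    ofE π A ((sig π σ hσ A).hom.app (op W) φ) t = ofE π A φ (σW π σ hσ W t) := rfl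

theorem ofE_Top {W : U.Etale} (φ : EtCoh.sect (E π A) W) (t : tW π W) :
    ofE π A ((Top π σ hσ A).hom.app (op W) φ) t = ofE π A φ (σW π σ hσ W t) - ofE π A φ t := rfl

theorem ofE_pw {W : U.Etale} (k : ℕ) (φ : EtCoh.sect (E π A) W) :
    ⇑(ofE π A ((Jordan.pw (Top π σ hσ A) k).hom.app (op W) φ)) = (Tf (σW π σ hσ W))^[k] (ofE π A φ) := by
  induction k with
  | zero => rfl
  | succ k ih =>
    rw [Function.iterate_succ_apply', ← ih]
    rfl

theorem v_Top : v π A ≫ Top π σ hσ A = 0 := by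
  apply Sheaf.hom_ext
  ext W c
  refine E_ext fun t => ?_
  change ofE π A ((Top π σ hσ A).hom.app (op W.unop) ((v π A).hom.app (op W.unop) c)) t = 0
  rw [ofE_Top, ofE_v, ofE_v, ← Scheme.Hom.comp_apply, σW_fst, sub_self]

section Kum

variable {ℓ : ℕ} [hℓ : Fact ℓ.Prime] {f ζ : Γ(U, ⊤)} {x : Γ(T, ⊤)} (hS : Setup π σ ℓ f ζ x) [Module (ZMod ℓ) A]

instance neZero_of_fact : NeZero ℓ := ⟨hℓ.out.ne_zero⟩

omit hℓ in
/-- Powers of the automorphism. -/
theorem exists_pow {T U : Scheme.{u}} {π : T ⟶ U} {σ : T ⟶ T} {ζ : Γ(U, ⊤)} {x : Γ(T, ⊤)} (hσ : σ ≫ π = π)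
    (hx : σ.appTop.hom x = π.appTop.hom ζ * x) (k : ℕ) :
    ∃ τ : T ⟶ T, τ ≫ π = π ∧ τ.appTop.hom x = π.appTop.hom (ζ ^ k) * x ∧ ∀ t, τ t = (⇑σ)^[k] t := by
  induction k with
  | zero =>
    refine ⟨𝟙 T, Category.id_comp _, ?_, fun t => rfl⟩
    rw [pow_zero, map_one, one_mul]
    rfl
  | succ k ih =>
    obtain ⟨τ, h1, h2, h3⟩ := ih
    refine ⟨σ ≫ τ, by rw [Category.assoc, h1, hσ], ?_, fun t => ?_⟩
    · rw [appTop_comp, h2, map_mul, hx, ← appTop_comp, hσ, ← mul_assoc, ← map_mul, ← pow_succ]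
    · rw [Scheme.Hom.comp_apply, h3, Function.iterate_succ_apply]

omit hℓ in
theorem iterate_eq {T U : Scheme.{u}} {π : T ⟶ U} {σ : T ⟶ T} {f ζ : Γ(U, ⊤)} {x : Γ(T, ⊤)} (hσ : σ ≫ π = π)
    (hx : σ.appTop.hom x = π.appTop.hom ζ * x) (hK : IsKum π ℓ f x) (hζ : ζ ^ ℓ = 1) : (⇑σ)^[ℓ] = id := by
  obtain ⟨τ, h1, h2, h3⟩ := exists_pow hσ hx ℓ
  have h4 : τ = 𝟙 T := by
    apply hK.uniq
    · rw [h1, Category.id_comp]
    · rw [h2, hζ, map_one, one_mul]
      rfl
  funext t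
  rw [← h3, h4]
  rfl

omit hℓ in
include hS in
theorem iterate_σW (W : U.Etale) : (⇑(σW π σ hS.comp W))^[ℓ] = id := by
  refine iterate_eq (f := W.hom.appTop.hom f) (ζ := W.hom.appTop.hom ζ) (x := (sndW π W).appTop.hom x)
    (σW_fst π σ hS.comp W) ?_ (KumSes250.isKum_bc hS.kum W) ?_
  · rw [← appTop_comp, σW_snd, appTop_comp, hS.mul, map_mul, ← appTop_comp, ← conditionW, appTop_comp]
  · rw [← map_pow, isRoot_pow hS.root, map_one]

theorem mono_v [NeZero ℓ] (hS : Setup π σ ℓ f ζ x) : Mono (v π A) := by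
  apply FamTau.mono_of_inj
  intro W c hc
  refine L_ext fun w => ?_
  obtain ⟨t, rfl⟩ := surjective_fst hS W w
  rw [← ofE_v, hc]
  rfl

theorem exact_v [NeZero ℓ] (hS : Setup π σ ℓ f ζ x) :
    (ShortComplex.mk (v π A) (Top π σ hS.comp A) (v_Top hS.comp)).Exact := by
  apply FamTau.exact_of_loc
  intro W s hs w
  obtain ⟨P, a, w', g, hv, hg⟩ := exists_root hS W w
  obtain ⟨k, hk, hk'⟩ := exists_section hS hg
  let ψ : LocallyConstant (tW π P) A := ofE π A ((E π A).obj.map a.op s)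
  have hψ : ∀ t, ψ (σW π σ hS.comp P t) = ψ t := by
    intro t
    rw [← sub_eq_zero]
    refine (ofE_Top hS.comp ((E π A).obj.map a.op s) t).symm.trans ?_
    have h1 : (Top π σ hS.comp A).hom.app (op P) ((E π A).obj.map a.op s) = 0 := by
      have h2 := ConcreteCategory.congr_hom ((Top π σ hS.comp A).hom.naturality a.op) s
      refine h2.trans ?_
      change (E π A).obj.map a.op ((Top π σ hS.comp A).hom.app (op W) s) = 0
      rw [hs, map_zero]
    rw [h1]
    rfl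
  let c : LocallyConstant P.left A := ψ.comap (cmap k)
  refine ⟨P, a, w', toL A c, hv, ?_⟩
  refine E_ext fun t => ?_
  rw [ofE_v]
  exact eq_of_invariant hS hg hk hk' ψ hψ t

/-- The function `b_k(idx) c`. -/
def bf {W : U.Etale} {g : Γ(W.left, ⊤)} (hg : g ^ ℓ = W.hom.appTop.hom f) (c : LocallyConstant W.left A) (k : ℕ) :
    LocallyConstant (tW π W) A :=
  ⟨fun t => bk ℓ k ((datW hS hg).idx t) • c (fstW π W t),
    ((datW hS hg).idx.isLocallyConstant.prodMk
      (c.isLocallyConstant.comp_continuous (cmap (fstW π W)).continuous)).comp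
        (fun i : ZMod ℓ × A => bk ℓ k i.1 • i.2)⟩

theorem bf_apply {W : U.Etale} {g : Γ(W.left, ⊤)} (hg : g ^ ℓ = W.hom.appTop.hom f)
    (c : LocallyConstant W.left A) (k : ℕ) (t : tW π W) :
    bf hS hg c k t = bk ℓ k ((datW hS hg).idx t) • c (fstW π W t) := rfl

theorem Tf_bf {W : U.Etale} {g : Γ(W.left, ⊤)} (hg : g ^ ℓ = W.hom.appTop.hom f)
    (c : LocallyConstant W.left A) (k : ℕ) (hk : k + 1 < ℓ) :
    Tf (σW π σ hS.comp W) (bf hS hg c (k + 1)) = bf hS hg c k := by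
  funext t
  change bf hS hg c (k + 1) (σW π σ hS.comp W t) - bf hS hg c (k + 1) t = _
  rw [bf_apply, bf_apply, bf_apply, idx_σ hS hg, ← Scheme.Hom.comp_apply, σW_fst, ← sub_smul, bk_succ ℓ k hk]

theorem Tf_bf_iterate {W : U.Etale} {g : Γ(W.left, ⊤)} (hg : g ^ ℓ = W.hom.appTop.hom f)
    (c : LocallyConstant W.left A) (k : ℕ) (hk : k < ℓ) (t : tW π W) :
    (Tf (σW π σ hS.comp W))^[k] (bf hS hg c k) t = c (fstW π W t) := by
  induction k with
  | zero =>
    change bf hS hg c 0 t = _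
    rw [bf_apply, bk_zero, one_smul]
  | succ k ih => rw [Function.iterate_succ_apply, Tf_bf hS hg c k hk, ih (by omega)]

include hS in
/-- The Jordan structure. -/
theorem nonempty_str : Nonempty (Jordan.Str (Top π σ hS.comp A) (v π A) (ℓ - 1)) := by
  have hm : Mono (v π A) := mono_v hS
  have he := exact_v (A := A) hS
  have h1 : Jordan.pw (Top π σ hS.comp A) (ℓ - 1) ≫ Top π σ hS.comp A = 0 := by
    rw [← Jordan.pw_succ, Nat.sub_add_cancel hℓ.out.one_le]
    apply Sheaf.hom_ext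
    ext W φ
    refine E_ext fun t => ?_
    have h2 := congrFun (ofE_pw hS.comp ℓ φ) t
    refine h2.trans ?_
    rw [Tf_iterate _ ℓ (iterate_σW hS W.unop)]
    rfl
  have hm' : Mono (ShortComplex.mk (v π A) (Top π σ hS.comp A) (v_Top hS.comp)).f := hm
  let p : E π A ⟶ LC U A := he.lift (Jordan.pw (Top π σ hS.comp A) (ℓ - 1)) h1
  have hp : p ≫ v π A = Jordan.pw (Top π σ hS.comp A) (ℓ - 1) := he.lift_f _ h1
  refine ⟨⟨hm, v_Top hS.comp, fun x hx => ⟨he.lift x hx, he.lift_f x hx⟩, p, ?_, hp⟩⟩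
  apply FamTau.epi_of_loc
  intro W c w
  obtain ⟨P, a, w', g, hv, hg⟩ := exists_root hS W w
  let c' : EtCoh.sect (LC U A) P := (LC U A).obj.map a.op c
  refine ⟨P, a, w', toE π A (bf hS hg (ofL A c') (ℓ - 1)), hv, ?_⟩
  have h3 : ofE π A ((Jordan.pw (Top π σ hS.comp A) (ℓ - 1)).hom.app (op P)
      (toE π A (bf hS hg (ofL A c') (ℓ - 1)))) = ofE π A ((v π A).hom.app (op P) c') := by
    refine LocallyConstant.ext fun t => ?_
    have h4 := congrFun (ofE_pw hS.comp (ℓ - 1) (toE π A (bf hS hg (ofL A c') (ℓ - 1)))) t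
    refine h4.trans ?_
    exact Tf_bf_iterate hS hg (ofL A c') (ℓ - 1) (Nat.sub_lt hℓ.out.pos one_pos) t
  rw [← hp] at h3
  refine L_ext fun z => ?_
  obtain ⟨t, rfl⟩ := surjective_fst hS P z
  have h5 := congrArg (fun k => k t) h3
  exact h5

end Kum

end K726.KumSheaf
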