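import Groth.Agent.EtDual.K726.LocGen
import Groth.Agent.EtDual.K726.KumSheaf

/-!
# The core of the Kummer induction

`a : V ⟶ U`, `ι : U ⟶ X` with `X` strictly local, `L` the constant sheaf on `V`, `v : L ⟶ E` the kernel of a
nilpotent operator.  From the cohomology of `a_* L`, `R¹ a_* L` (two degrees each) and `H^(2e+2)(U, a_* E) = 0` we
get `H^q(V, L) = 0` for all `q ≥ 2`.
-/

set_option autoImplicit false
set_option linter.unusedSectionVars false
universe u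
open CategoryTheory CategoryTheory.Limits AlgebraicGeometry Opposite Abelian
open scoped Groth.Agent.Etcore.EtInst
open Groth.Agent.Etcore Groth.Agent.Etcore.EtInst

noncomputable section

namespace K726.Core

open Groth.Agent.Etbc.H194.Edge K726.LES Groth.Agent.Etcore.RpushLoc K726.TwoRow K726.LocSec
open Groth.Agent.Sga4B.ConstLC

attribute [local instance] Groth.Agent.Etcore.HQ.pfl push_pfl

variable {V U X D : Scheme.{u}} (a : V ⟶ U) (ι : U ⟶ X) [Etale ι] [Mono ι] (i : D ⟶ X) [IsClosedImmersion i]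
  {M : Type (u + 1)} [AddCommGroup M] {L E : EtCoh.Ab V} {T : E ⟶ E} {v : L ⟶ E} {m : ℕ} (St : Jordan.Str T v m)
  (hm : 1 ≤ m) (ℓ : ℕ) (hℓ : 0 < ℓ) (e : ℕ)

include St hm in
/-- `H^(2e+2)(V, L) → H^(2e+2)(V, E)` is zero. -/
theorem map_zero (iso : Kc (a ≫ ι) (injSeq L) ≅ (EtCoh.push i).obj (LC D M))
    (hX : ∀ (F : EtCoh.Ab X) (x : HH X F 1), x = 0)
    (hN : ∀ q, 2 ≤ q → LocZero a L q)
    (hE : ∀ x : HH U ((EtCoh.push a).obj E) (2 * e + 2), x = 0)
    (h0 : Function.Surjective (HHmap v 0)) [Finite (HH V L 0)] [Finite (HH V L 1)]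
    (hc : Nat.card (HH V L 0) = Nat.card (HH V L 1)) (x : HH V L (2 * e + 2)) : HHmap v (2 * e + 2) x = 0 := by
  obtain ⟨φ, hφ⟩ := exists_hom (injSeq_shortExact L) (S' := injSeq E) v
  have h1 : ∀ x : HH V (injSeq L).X₁ 1, HHmap φ.τ₁ 1 x = 0 := by
    intro x
    rw [hφ]
    exact JordanH.one_zero St h0 hc hm x
  have h2 : LocBd (a ≫ ι) (injSeq E) φ.τ₃ :=
    LocGen.locBd (a ≫ ι) (injSeq_shortExact L) i iso hX (injSeq_shortExact E) φ h1
  have h3 := (LocBd.of_comp a ι h2).push_comp_pK_eq_zero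
  have h4 := map_zero_of a (injSeq_shortExact L) (injSeq_shortExact E) φ hN (2 * e) hE h3 x
  rw [hφ] at h4
  exact h4

include St hm hℓ in
/-- The core step. -/
theorem core (iso : Kc (a ≫ ι) (injSeq L) ≅ (EtCoh.push i).obj (LC D M))
    (hX : ∀ (F : EtCoh.Ab X) (x : HH X F 1), x = 0)
    (hN : ∀ q, 2 ≤ q → LocZero a L q)
    (hE : ∀ x : HH U ((EtCoh.push a).obj E) (2 * e + 2), x = 0)
    (h0 : Function.Surjective (HHmap v 0))
    (hc0 : Nat.card (HH V L 0) = ℓ) (hc1 : Nat.card (HH V L 1) = ℓ) (hcE : Nat.card (HH V E 1) = ℓ)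
    (hU : ∀ q, 2 ≤ q → q ≠ 2 * e + 3 → ∀ x : HH U ((EtCoh.push a).obj L) q, x = 0)
    (hK : ∀ q, 1 ≤ q → q ≠ 2 * e + 1 → ∀ x : HH U (Kc a (injSeq L)) q, x = 0)
    (hUf : Finite (HH U ((EtCoh.push a).obj L) (2 * e + 3)))
    (hUc : Nat.card (HH U ((EtCoh.push a).obj L) (2 * e + 3)) ≤ ℓ)
    (hKc : Nat.card (HH U (Kc a (injSeq L)) (2 * e + 1)) = ℓ) :
    (∀ q, 2 ≤ q → ∀ x : HH V L q, x = 0) ∧ Nat.card (HH U ((EtCoh.push a).obj L) (2 * e + 3)) = ℓ := by
  have hf0 : Finite (HH V L 0) := Nat.finite_of_card_ne_zero (by omega)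
  have hf1 : Finite (HH V L 1) := Nat.finite_of_card_ne_zero (by omega)
  have hc : Nat.card (HH V L 0) = Nat.card (HH V L 1) := by rw [hc0, hc1]
  have h1 : ∀ q, 2 ≤ q → q ≠ 2 * e + 2 → q ≠ 2 * e + 3 → ∀ x : HH V L q, x = 0 := by
    intro q hq hq1 hq2
    obtain ⟨q, rfl⟩ := Nat.exists_eq_add_of_le' hq
    exact van a (injSeq_shortExact L) hN q (hU _ hq hq2) (hK _ (by omega) (by omega))
  have h2 : Function.Injective (HHmap v (2 * e + 2)) := by
    obtain _ | e := e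
    · exact JordanH.inj_two St h0 hc hm (by rw [hcE, hc1])
    · exact JordanH.inj_succ St (2 * (e + 1) + 1) (h1 _ (by omega) (by omega) (by omega))
  have h3 : ∀ x : HH V L (2 * e + 2), x = 0 := fun x =>
    h2 ((map_zero a ι i St hm e iso hX hN hE h0 hc x).trans (AddMonoidHom.map_zero _).symm)
  have hf : Finite (HH U ((EtCoh.push a).obj (injSeq L).X₁) (2 * e + 3)) := hUf
  have h4 := top a (injSeq_shortExact L) hN (2 * e) h3 (hK _ (by omega) (by omega)) (hUc.trans hKc.ge)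
  refine ⟨fun q hq => ?_, h4.2.trans hKc⟩
  by_cases hq1 : q = 2 * e + 2
  · subst hq1; exact h3
  by_cases hq2 : q = 2 * e + 3
  · subst hq2; exact h4.1
  exact h1 q hq hq1 hq2

end K726.Core
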