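import Mathlib.CategoryTheory.Abelian.Refinements
import Mathlib.CategoryTheory.Abelian.Exact
import Mathlib.Algebra.Homology.ShortComplex.ShortExact

/-!
# The Jordan filtration of an endomorphism

`T : E ⟶ E` in an abelian category, `u : L ⟶ E` the kernel of `T`, `p : E ⟶ L` epi with
`p ≫ u = T ^ (m)`.  The images `im i` of the powers of `T` sit in short exact sequences
`0 → L → im i → im (i + 1) → 0` for `i ≤ m`, and `im (m + 1) = 0`.
-/

set_option autoImplicit false
set_option linter.unusedSectionVars false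
universe v w
open CategoryTheory CategoryTheory.Limits

noncomputable section

namespace K726.Jordan

variable {C : Type w} [Category.{v} C] [Abelian C]

/-- The powers of an endomorphism. -/
def pw {E : C} (T : E ⟶ E) : ℕ → (E ⟶ E)
  | 0 => 𝟙 E
  | n + 1 => pw T n ≫ T

@[simp] theorem pw_zero {E : C} (T : E ⟶ E) : pw T 0 = 𝟙 E := rfl

theorem pw_succ {E : C} (T : E ⟶ E) (n : ℕ) : pw T (n + 1) = pw T n ≫ T := rfl

theorem pw_succ' {E : C} (T : E ⟶ E) (n : ℕ) : pw T (n + 1) = T ≫ pw T n := by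
  induction n with
  | zero => rw [pw_succ, pw_zero, Category.id_comp, Category.comp_id]
  | succ n ih => rw [pw_succ, ih, Category.assoc, ← pw_succ, ← ih]

theorem pw_add {E : C} (T : E ⟶ E) (m n : ℕ) : pw T (m + n) = pw T m ≫ pw T n := by
  induction n with
  | zero => rw [pw_zero, Category.comp_id]; rfl
  | succ n ih => rw [← Nat.add_assoc, pw_succ, ih, Category.assoc, ← pw_succ]

/-- The image of the `i`-th power. -/
def im {E : C} (T : E ⟶ E) (i : ℕ) : C := image (pw T i)

/-- The inclusion of the image. -/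
def ι {E : C} (T : E ⟶ E) (i : ℕ) : im T i ⟶ E := image.ι (pw T i)

/-- The projection to the image. -/
def e {E : C} (T : E ⟶ E) (i : ℕ) : E ⟶ im T i := factorThruImage (pw T i)

instance {E : C} (T : E ⟶ E) (i : ℕ) : Mono (ι T i) := inferInstanceAs (Mono (image.ι _))
instance {E : C} (T : E ⟶ E) (i : ℕ) : Epi (e T i) := inferInstanceAs (Epi (factorThruImage _))

theorem e_ι {E : C} (T : E ⟶ E) (i : ℕ) : e T i ≫ ι T i = pw T i := image.fac _

/-- The map `im i ⟶ im (i + 1)` induced by `T`. -/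
def a {E : C} (T : E ⟶ E) (i : ℕ) : im T i ⟶ im T (i + 1) :=
  (Abelian.monoLift (ι T (i + 1)) (ι T i ≫ T) (by
    rw [← cancel_epi (e T i), comp_zero, ← Category.assoc, ← Category.assoc, e_ι, ← pw_succ, ← e_ι,
      Category.assoc, cokernel.condition, comp_zero]))

theorem a_ι {E : C} (T : E ⟶ E) (i : ℕ) : a T i ≫ ι T (i + 1) = ι T i ≫ T :=
  Abelian.monoLift_comp _ _ _

theorem e_a {E : C} (T : E ⟶ E) (i : ℕ) : e T i ≫ a T i = e T (i + 1) := by
  rw [← cancel_mono (ι T (i + 1)), Category.assoc, a_ι, ← Category.assoc, e_ι, e_ι, pw_succ]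

instance {E : C} (T : E ⟶ E) (i : ℕ) : Epi (a T i) := by
  have h : Epi (e T i ≫ a T i) := by rw [e_a]; infer_instance
  exact epi_of_epi (e T i) _

/-- `im 0 = E`. -/
instance isIso_ι_zero {E : C} (T : E ⟶ E) : IsIso (ι T 0) := by
  have h : Epi (e T 0 ≫ ι T 0) := by rw [e_ι, pw_zero]; infer_instance
  have : Epi (ι T 0) := epi_of_epi (e T 0) _
  exact isIso_of_mono_of_epi _

section Setup

variable {E L : C} (T : E ⟶ E) (u : L ⟶ E)

/-- The setup. -/
structure Str (m : ℕ) where
  mono : Mono u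
  uT : u ≫ T = 0
  lift : ∀ {Z : C} (x : Z ⟶ E), x ≫ T = 0 → ∃ y : Z ⟶ L, y ≫ u = x
  p : E ⟶ L
  epi : Epi p
  pu : p ≫ u = pw T m

variable {T u} {m : ℕ} (S : Str T u m)

include S in
theorem exists_l (i : ℕ) (hi : i ≤ m) : ∃ l : L ⟶ im T i, l ≫ ι T i = u := by
  have := S.epi
  obtain ⟨k, rfl⟩ := Nat.exists_eq_add_of_le' hi
  have h : u ≫ cokernel.π (ι T i) = 0 := by
    rw [← cancel_epi S.p, comp_zero, ← Category.assoc, S.pu, pw_add, ← e_ι T i, Category.assoc,
      Category.assoc, cokernel.condition, comp_zero, comp_zero]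
  exact ⟨Abelian.monoLift (ι T i) u h, Abelian.monoLift_comp _ _ _⟩

/-- The map `L ⟶ im i`. -/
def l (i : ℕ) (hi : i ≤ m) : L ⟶ im T i := (exists_l S i hi).choose

theorem l_ι (i : ℕ) (hi : i ≤ m) : l S i hi ≫ ι T i = u := (exists_l S i hi).choose_spec

theorem l_a (i : ℕ) (hi : i ≤ m) : l S i hi ≫ a T i = 0 := by
  rw [← cancel_mono (ι T (i + 1)), zero_comp, Category.assoc, a_ι, ← Category.assoc, l_ι, S.uT]

theorem mono_l (i : ℕ) (hi : i ≤ m) : Mono (l S i hi) := by
  have := S.mono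
  have h : Mono (l S i hi ≫ ι T i) := by rw [l_ι]; infer_instance
  exact mono_of_mono _ (ι T i)

/-- The short exact sequence `0 → L → im i → im (i + 1) → 0`. -/
theorem shortExact (i : ℕ) (hi : i ≤ m) : (ShortComplex.mk (l S i hi) (a T i) (l_a S i hi)).ShortExact where
  exact := by
    rw [ShortComplex.exact_iff_exact_up_to_refinements]
    intro Z (x : Z ⟶ im T i) (hx : x ≫ a T i = 0)
    have h : (x ≫ ι T i) ≫ T = 0 := by
      rw [Category.assoc, ← a_ι, ← Category.assoc, hx, zero_comp]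
    obtain ⟨y, hy⟩ := S.lift _ h
    refine ⟨Z, 𝟙 Z, inferInstance, y, ?_⟩
    rw [Category.id_comp]
    change x = y ≫ l S i hi
    rw [← cancel_mono (ι T i), Category.assoc, l_ι, hy]
  mono_f := mono_l S i hi
  epi_g := inferInstanceAs (Epi (a T i))

/-- `im (m + 1) = 0`. -/
theorem isZero_im (S : Str T u m) : IsZero (im T (m + 1)) := by
  have h : pw T (m + 1) = 0 := by rw [pw_succ, ← S.pu, Category.assoc, S.uT, comp_zero]
  have h1 : e T (m + 1) = 0 := by
    rw [← cancel_mono (ι T (m + 1)), e_ι, h, zero_comp]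
  rw [IsZero.iff_id_eq_zero, ← cancel_epi (e T (m + 1)), h1, zero_comp, zero_comp]

theorem u_e (S : Str T u m) : u ≫ e T 1 = 0 := by
  rw [← cancel_mono (ι T 1), zero_comp, Category.assoc, e_ι, pw_succ, pw_zero, Category.id_comp, S.uT]

/-- The first sequence `0 → L → E → im 1 → 0`. -/
theorem shortExact_zero (S : Str T u m) : (ShortComplex.mk u (e T 1) (u_e S)).ShortExact where
  exact := by
    rw [ShortComplex.exact_iff_exact_up_to_refinements]
    intro Z (x : Z ⟶ E) (hx : x ≫ e T 1 = 0)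
    have h : x ≫ T = 0 := by
      have h1 := congrArg (fun k => k ≫ ι T 1) hx
      simp only [Category.assoc, e_ι, pw_succ, pw_zero, Category.id_comp, zero_comp] at h1
      exact h1
    obtain ⟨y, hy⟩ := S.lift _ h
    exact ⟨Z, 𝟙 Z, inferInstance, y, (Category.id_comp x).trans hy.symm⟩
  mono_f := S.mono
  epi_g := inferInstanceAs (Epi (e T 1))

end Setup

end K726.Jordan
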