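import Groth.Agent.Etbc.H194.Edge

/-!
# The long exact sequence of étale cohomology, elementwise

Short complement to `Etbc.H194.Edge`: exactness at the middle term, naturality of the connecting maps,
vanishing criteria and cardinalities.
-/

set_option autoImplicit false
set_option linter.unusedSectionVars false
universe u
open CategoryTheory CategoryTheory.Limits AlgebraicGeometry Opposite Abelian
open scoped Groth.Agent.Etcore.EtInst
open Groth.Agent.Etcore Groth.Agent.Etcore.EtInst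

namespace K726.LES

open Groth.Agent.Etbc.H194.Edge

variable {X : Scheme.{u}} {S : ShortComplex (EtCoh.Ab X)} (hS : S.ShortExact)

include hS in
theorem ex2 (n : ℕ) (x : HH X S.X₂ n) (h : HHmap S.g n x = 0) : ∃ y, HHmap S.f n y = x :=
  (ExtMap.exact_fg hS (EtCoh.const X ℤ) n x).1 h

include hS in
theorem map_map (n : ℕ) (y : HH X S.X₁ n) : HHmap S.g n (HHmap S.f n y) = 0 := by
  rw [← HHmap_comp, S.zero, HHmap_apply, Ext.mk₀_zero, Ext.comp_zero]

theorem map_dl (n : ℕ) (y : HH X S.X₃ n) : HHmap S.f (n + 1) (dl hS n y) = 0 :=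
  (ExtMap.exact_δf hS (EtCoh.const X ℤ) rfl _).2 ⟨y, rfl⟩

/-- Naturality of the connecting map. -/
theorem dl_nat {S' : ShortComplex (EtCoh.Ab X)} (hS' : S'.ShortExact) (φ : S ⟶ S') (n : ℕ)
    (x : HH X S.X₃ n) : dl hS' n (HHmap φ.τ₃ n x) = HHmap φ.τ₁ (n + 1) (dl hS n x) := by
  have h := ShortComplex.ShortExact.extClass_naturality hS hS' φ
  rw [dl_apply, dl_apply, HHmap_apply, HHmap_apply, Ext.comp_assoc_of_second_deg_zero, ← h,
    Ext.comp_assoc_of_third_deg_zero]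

include hS in
theorem zero_mid (n : ℕ) (h1 : ∀ x : HH X S.X₁ n, x = 0) (h3 : ∀ x : HH X S.X₃ n, x = 0)
    (x : HH X S.X₂ n) : x = 0 := by
  obtain ⟨y, rfl⟩ := ex2 hS n x (h3 _)
  rw [h1 y, map_zero]

include hS in
theorem zero_left (n : ℕ) (h3 : ∀ x : HH X S.X₃ n, x = 0) (h2 : ∀ x : HH X S.X₂ (n + 1), x = 0)
    (x : HH X S.X₁ (n + 1)) : x = 0 := by
  obtain ⟨y, rfl⟩ := exists_dl_eq hS n x (h2 _)
  rw [h3 y, map_zero]

include hS in
theorem zero_right (n : ℕ) (h2 : ∀ x : HH X S.X₂ n, x = 0) (h1 : ∀ x : HH X S.X₁ (n + 1), x = 0)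
    (x : HH X S.X₃ n) : x = 0 := by
  obtain ⟨y, rfl⟩ := exists_map_eq hS n x (h1 _)
  rw [h2 y, map_zero]

theorem dl_injective (n : ℕ) (h2 : ∀ x : HH X S.X₂ n, HHmap S.g n x = 0) :
    Function.Injective (dl hS n) := by
  rw [injective_iff_map_eq_zero]
  intro x hx
  obtain ⟨y, rfl⟩ := exists_map_eq hS n x hx
  exact h2 y

include hS in
theorem map_injective (n : ℕ) (h : ∀ x : HH X S.X₃ n, dl hS n x = 0) :
    Function.Injective (HHmap S.f (n + 1)) := by
  rw [injective_iff_map_eq_zero]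
  intro x hx
  obtain ⟨y, rfl⟩ := exists_dl_eq hS n x hx
  exact h y

include hS in
theorem map_zero_injective : Function.Injective (HHmap S.f 0) :=
  ExtMap.injective_lf_zero hS (EtCoh.const X ℤ)

theorem isZero_HH {F : EtCoh.Ab X} (h : IsZero F) (n : ℕ) (x : HH X F n) : x = 0 := by
  have h1 : HHmap (𝟙 F) n x = x := HHmap_id F n x
  rw [← h1, h.eq_of_src (𝟙 F) 0, HHmap_apply, Ext.mk₀_zero, Ext.comp_zero]

theorem zero_of_iso {F G : EtCoh.Ab X} (e : F ≅ G) (n : ℕ) (h : ∀ x : HH X F n, x = 0) (x : HH X G n) :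
    x = 0 := by
  obtain ⟨y, rfl⟩ := (HHmap_bijective e.hom n).2 x
  rw [h y, map_zero]

theorem subsingleton_iff (F : EtCoh.Ab X) (n : ℕ) :
    Subsingleton (EtCoh.H X F n) ↔ ∀ x : HH X F n, x = 0 :=
  ⟨fun h x => @Subsingleton.elim _ h x 0, fun h => ⟨fun a b => (h a).trans (h b).symm⟩⟩

end K726.LES
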