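import Groth.Agent.EtDual.K726.Jordan
import Groth.Agent.EtDual.K726.LES

/-!
# Cohomology along the Jordan filtration

`S : Str T u m` on étale sheaves (`0 → L → E` the kernel of `T`, `T ^ m` onto `L`).
* `zero_im`: `H^n(L) = 0` implies `H^n(im i) = 0` for all `i ≤ m + 1`;
* `inj_succ`: `H^n(L) = 0` implies that `H^(n+1)(L) → H^(n+1)(E)` is injective;
* `one_zero`, `inj_two`: the case where `H^0(L) = H^0(E)`, `#H^0(L) = #H^1(L) = #H^1(E)` finite and `m ≥ 1`:
  then `H^1(L) → H^1(E)` is zero and `H^2(L) → H^2(E)` is injective.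
-/

set_option autoImplicit false
set_option linter.unusedSectionVars false
universe u
open CategoryTheory CategoryTheory.Limits AlgebraicGeometry Opposite Abelian
open scoped Groth.Agent.Etcore.EtInst
open Groth.Agent.Etcore Groth.Agent.Etcore.EtInst

noncomputable section

namespace K726.JordanH

open Groth.Agent.Etbc.H194.Edge K726.Jordan K726.LES

variable {X : Scheme.{u}} {E L : EtCoh.Ab X} {T : E ⟶ E} {v : L ⟶ E} {m : ℕ} (S : Str T v m)

include S

theorem zero_im (n : ℕ) (h : ∀ x : HH X L n, x = 0) (k : ℕ) :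
    ∀ i : ℕ, i + k = m + 1 → ∀ x : HH X (im T i) n, x = 0 := by
  induction k with
  | zero =>
    rintro i rfl
    exact isZero_HH (isZero_im S) n
  | succ k ih =>
    intro i hi
    exact zero_mid (shortExact S i (by omega)) n h (ih (i + 1) (by omega))

theorem inj_succ (n : ℕ) (h : ∀ x : HH X L n, x = 0) : Function.Injective (HHmap v (n + 1)) :=
  map_injective (shortExact_zero S) n fun x => by
    rw [zero_im S n h m 1 (by omega) x, map_zero]

section Low

variable (h0 : Function.Surjective (HHmap v 0))

include h0 in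
theorem a_zero (i : ℕ) (x : HH X (im T i) 0) : HHmap (a T i) 0 x = 0 := by
  apply HHmap_injective_of_mono (ι T (i + 1))
  obtain ⟨z, hz⟩ := h0 (HHmap (ι T i) 0 x)
  rw [map_zero, ← HHmap_comp, a_ι, HHmap_comp, ← hz, ← HHmap_comp, S.uT, HHmap_apply, Ext.mk₀_zero,
    Ext.comp_zero]

variable [Finite (HH X L 0)] [Finite (HH X L 1)] (hc : Nat.card (HH X L 0) = Nat.card (HH X L 1))

omit S in
include hc in
theorem surjective_of_inj (f : HH X L 0 → HH X L 1) (hf : Function.Injective f) : Function.Surjective f :=
  ((Nat.bijective_iff_injective_and_card f).2 ⟨hf, hc⟩).2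

include h0 hc in
theorem surj_dl (i : ℕ) (hi : i < m) : Function.Surjective (dl (shortExact S i hi.le) 0) := by
  have h1 : Function.Injective (dl (shortExact S i hi.le) 0) :=
    dl_injective (shortExact S i hi.le) 0 fun x => a_zero S h0 i x
  have h2 : Function.Injective (HHmap (l S (i + 1) hi) 0) := by
    have := mono_l S (i + 1) hi
    exact HHmap_injective_of_mono _
  exact Function.Surjective.of_comp (surjective_of_inj hc _ (h1.comp h2))

include h0 hc in
theorem inj_one (i : ℕ) (hi : i < m) : Function.Injective (HHmap (a T i) 1) := by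
  rw [injective_iff_map_eq_zero]
  intro x hx
  obtain ⟨y, rfl⟩ := ex2 (shortExact S i hi.le) 1 x hx
  obtain ⟨z, rfl⟩ := surj_dl S h0 hc i hi y
  exact map_dl (shortExact S i hi.le) 0 z

include h0 hc in
theorem exists_inj (k : ℕ) : ∀ i : ℕ, i + k = m → ∃ f : HH X (im T i) 1 → HH X L 1, Function.Injective f := by
  induction k with
  | zero =>
    intro i hi
    have h : Function.Bijective (HHmap (l S i (by omega)) 1) := by
      have := mono_l S i (by omega)
      have h1 : IsIso (l S i (by omega)) := by
        have h2 : Epi (l S i (by omega)) := by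
          have hS := shortExact S i (by omega)
          obtain rfl : i = m := hi
          exact hS.exact.epi_f ((isZero_im S).eq_of_tgt _ _)
        exact isIso_of_mono_of_epi _
      exact HHmap_bijective _ _
    exact ⟨_, (Equiv.ofBijective _ h).symm.injective⟩
  | succ k ih =>
    intro i hi
    obtain ⟨f, hf⟩ := ih (i + 1) (by omega)
    exact ⟨_, hf.comp (inj_one S h0 hc i (by omega))⟩

variable (hm : 1 ≤ m)

include h0 hc hm in
theorem surj_dl_zero : Function.Surjective (dl (shortExact_zero S) 0) := by
  have h1 : Function.Injective (dl (shortExact_zero S) 0) := by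
    refine dl_injective (shortExact_zero S) 0 fun x => ?_
    change HHmap (e T 1) 0 x = 0
    apply HHmap_injective_of_mono (ι T 1)
    obtain ⟨z, rfl⟩ := h0 x
    rw [map_zero, ← HHmap_comp, ← HHmap_comp, e_ι, pw_succ, pw_zero, Category.id_comp, S.uT, HHmap_apply,
      Ext.mk₀_zero, Ext.comp_zero]
  have h2 : Function.Injective (HHmap (l S 1 hm) 0) := by
    have := mono_l S 1 hm
    exact HHmap_injective_of_mono _
  exact Function.Surjective.of_comp (surjective_of_inj hc _ (h1.comp h2))

include h0 hc hm in
/-- `H^1(L) → H^1(E)` is zero. -/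
theorem one_zero (x : HH X L 1) : HHmap v 1 x = 0 := by
  obtain ⟨y, rfl⟩ := surj_dl_zero S h0 hc hm x
  exact map_dl (shortExact_zero S) 0 y

include h0 hc hm in
/-- `H^2(L) → H^2(E)` is injective. -/
theorem inj_two (hE : Nat.card (HH X E 1) = Nat.card (HH X L 1)) : Function.Injective (HHmap v 2) := by
  have h1 : Function.Injective (HHmap (e T 1) 1) := by
    rw [injective_iff_map_eq_zero]
    intro x hx
    obtain ⟨y, rfl⟩ := ex2 (shortExact_zero S) 1 x hx
    exact one_zero S h0 hc hm y
  obtain ⟨f, hf⟩ := exists_inj S h0 hc (m - 1) 1 (by omega)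
  have h2 : Function.Bijective (f ∘ HHmap (e T 1) 1) :=
    (Nat.bijective_iff_injective_and_card _).2 ⟨hf.comp h1, hE⟩
  have h3 : Function.Surjective (HHmap (e T 1) 1) := by
    intro y
    obtain ⟨x, hx⟩ := h2.2 (f y)
    exact ⟨x, hf hx⟩
  refine map_injective (shortExact_zero S) 1 fun x => ?_
  obtain ⟨y, rfl⟩ := h3 x
  exact dl_map (shortExact_zero S) 1 y

end Low

end K726.JordanH
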