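import Groth.Agent.EtDual.K726.LocSec

/-!
# Local lifting over a strictly local base

If `R¹ f_* N` is the push forward of a constant sheaf along a closed immersion, all `H¹(Y, F)` vanish and
`H¹(X, N) → H¹(X, N')` is zero then `R¹ f_* N → R¹ f_* N'` is zero.
-/

set_option autoImplicit false
set_option linter.unusedSectionVars false
universe u
open CategoryTheory CategoryTheory.Limits AlgebraicGeometry Opposite Abelian
open scoped Groth.Agent.Etcore.EtInst
open Groth.Agent.Etcore Groth.Agent.Etcore.EtInst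

noncomputable section

namespace K726.LocGen

open Groth.Agent.Etbc.H194.Edge K726.LES Groth.Agent.Etcore.RpushLoc K726.TwoRow K726.LocSec
open Groth.Agent.EtpbcB.EdgeLemma (Bc T kap shortExact_T π_kap mono_kap shortExact_K K)
open Groth.Agent.EtpbcB.Big (et_w et_map_map) 
open Groth.Agent.Sga4B.ConstLC Groth.Agent Groth.Agent.Etcore.HpullCalc

attribute [local instance] Groth.Agent.Etcore.HQ.pfl push_pfl

variable {X Y : Scheme.{u}} (f : X ⟶ Y)

section Const

variable {D : Scheme.{u}} (i : D ⟶ Y) [IsClosedImmersion i] {A : Type (u + 1)} [AddCommGroup A]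

/-- Locally constant functions on a closed subscheme are constant locally on the ambient scheme. -/
theorem exists_const (W : Y.Etale) (c : LocallyConstant ((EtCoh.bc i).obj W).left A) (w : W.left) :
    ∃ (W' : Y.Etale) (k : W' ⟶ W) (w' : W'.left) (a : A), k.left w' = w ∧
      ∀ d : ((EtCoh.bc i).obj W').left, c (((EtCoh.bc i).map k).left d) = a := by
  have hcl : IsClosedImmersion (bf i W) := inferInstanceAs (IsClosedImmersion (pullback.fst W.hom i))
  have key : ∀ (N' : Set W.left) (hN' : IsOpen N') (hw : w ∈ N') (a : A)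
      (ha : ∀ d, bf i W d ∈ N' → c d = a), ∃ (W' : Y.Etale) (k : W' ⟶ W) (w' : W'.left) (a : A), k.left w' = w ∧
      ∀ d : ((EtCoh.bc i).obj W').left, c (((EtCoh.bc i).map k).left d) = a := by
    intro N' hN' hw a ha
    refine ⟨openSub W ⟨N', hN'⟩, openSubι W ⟨N', hN'⟩, ⟨w, hw⟩, a, rfl, fun d => ha _ ?_⟩
    have h1 := congrArg (fun r => r.base d) (map_bf i (openSubι W ⟨N', hN'⟩))
    have h2 : bf i W (((EtCoh.bc i).map (openSubι W ⟨N', hN'⟩)).left d) =
      (openSubι W ⟨N', hN'⟩).left (bf i (openSub W ⟨N', hN'⟩) d) := h1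
    rw [h2]
    exact (bf i (openSub W ⟨N', hN'⟩) d).2
  by_cases hw : w ∈ Set.range (bf i W)
  · obtain ⟨d, rfl⟩ := hw
    have ho : IsOpen (c ⁻¹' {c d}) := c.isLocallyConstant {c d}
    obtain ⟨N', hN', he⟩ := (bf i W).isClosedEmbedding.isInducing.isOpen_iff.1 ho
    have he' : ∀ e, bf i W e ∈ N' ↔ c e = c d := fun e => by
      have h3 : e ∈ (bf i W) ⁻¹' N' ↔ e ∈ c ⁻¹' {c d} := by rw [he]
      exact h3
    exact key N' hN' ((he' d).2 rfl) (c d) fun e h => (he' e).1 h
  · refine key (Set.range (bf i W))ᶜ ?_ hw 0 fun d hd => (hd ⟨d, rfl⟩).elim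
    exact (bf i W).isClosedEmbedding.isClosed_range.isOpen_compl

end Const

variable {S : ShortComplex (EtCoh.Ab X)} (hS : S.ShortExact)

include hS in
theorem exact_push_pK : (ShortComplex.mk ((EtCoh.push f).map S.g) (pK f S) (push_comp_pK f S)).Exact := by
  let φ : ShortComplex.mk ((EtCoh.push f).map S.g) (pK f S) (push_comp_pK f S) ⟶ K (EtCoh.push f) S :=
    { τ₁ := cokernel.π ((EtCoh.push f).map S.f)
      τ₂ := 𝟙 _
      τ₃ := 𝟙 _
      comm₁₂ := (π_kap (R := EtCoh.push f)).trans (Category.comp_id _).symm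
      comm₂₃ := (Category.id_comp _).trans (Category.comp_id _).symm }
  have h1 : Epi φ.τ₁ := inferInstanceAs (Epi (cokernel.π _))
  have h2 : IsIso φ.τ₂ := inferInstanceAs (IsIso (𝟙 _))
  have h3 : Mono φ.τ₃ := inferInstanceAs (Mono (𝟙 _))
  rw [ShortComplex.exact_iff_of_epi_of_isIso_of_mono φ]
  exact (shortExactK f hS).exact

theorem map_app {F G : EtCoh.Ab Y} (φ : F ⟶ G) {W W' : Y.Etale} (k : W' ⟶ W) (s : EtCoh.sect F W) :
    φ.hom.app (op W') (F.obj.map k.op s) = G.obj.map k.op (φ.hom.app (op W) s) :=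
  ConcreteCategory.congr_hom (φ.hom.naturality k.op) s

section Gen

variable {D : Scheme.{u}} (i : D ⟶ Y) [IsClosedImmersion i] {A : Type (u + 1)} [AddCommGroup A]
  (e : Kc f S ≅ (EtCoh.push i).obj (LC D A)) (hY : ∀ (F : EtCoh.Ab Y) (x : HH Y F 1), x = 0)

include hS e hY in
/-- Sections of `f_* X₃` are, locally and up to the image of `f_* X₂`, restrictions of global ones. -/
theorem exists_gen (W : Y.Etale) (s : EtCoh.sect ((EtCoh.push f).obj S.X₃) W) (w : W.left) :
    ∃ (W' : Y.Etale) (k : W' ⟶ W) (w' : W'.left) (γ : EtCoh.sect ((EtCoh.push f).obj S.X₃) (EtCoh.top Y))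
      (t : EtCoh.sect ((EtCoh.push f).obj S.X₂) W'), k.left w' = w ∧
      ((EtCoh.push f).obj S.X₃).obj.map k.op s = ((EtCoh.push f).obj S.X₃).obj.map (toTop W').op γ +
        ((EtCoh.push f).map S.g).hom.app (op W') t := by
  let L := (EtCoh.push i).obj (LC D A)
  let c : EtCoh.sect L W := e.hom.hom.app (op W) ((pK f S).hom.app (op W) s)
  obtain ⟨W', k, w', a, hw, ha⟩ := exists_const i W c w
  let c0 : EtCoh.sect L (EtCoh.top Y) := LocallyConstant.const (((EtCoh.bc i).obj (EtCoh.top Y)).left) a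
  let κ : EtCoh.sect (Kc f S) (EtCoh.top Y) := e.inv.hom.app (op (EtCoh.top Y)) c0
  obtain ⟨z, hz⟩ := surjective_pK f hY hS ((H0 Y (Kc f S)).symm κ)
  let γ : EtCoh.sect ((EtCoh.push f).obj S.X₃) (EtCoh.top Y) := H0 Y ((EtCoh.push f).obj S.X₃) z
  have hγ : (pK f S).hom.app (op (EtCoh.top Y)) γ = κ := by
    rw [← H0_map, hz, AddEquiv.apply_symm_apply]
  have h1 : (pK f S).hom.app (op W') (((EtCoh.push f).obj S.X₃).obj.map k.op s -
      ((EtCoh.push f).obj S.X₃).obj.map (toTop W').op γ) = 0 := by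
    rw [map_sub, map_app, map_app, hγ, sub_eq_zero]
    have h2 : ∀ x y : EtCoh.sect (Kc f S) W', e.hom.hom.app (op W') x = e.hom.hom.app (op W') y → x = y := by
      intro x y h
      have h3 : ∀ x : EtCoh.sect (Kc f S) W', e.inv.hom.app (op W') (e.hom.hom.app (op W') x) = x := fun x =>
        congrArg (fun φ => φ.hom.app (op W') x) e.hom_inv_id
      rw [← h3 x, h, h3]
    apply h2
    rw [map_app, map_app]
    have h4 : e.hom.hom.app (op (EtCoh.top Y)) κ = c0 :=
      congrArg (fun φ => φ.hom.app (op (EtCoh.top Y)) c0) e.inv_hom_id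
    rw [h4]
    exact LocallyConstant.ext ha
  obtain ⟨W'', k', w'', t, hw', ht⟩ := exists_local_of_exact _ _ _ (exact_push_pK f hS) W' _ h1 w'
  refine ⟨W'', k' ≫ k, w'', γ, t, ?_, ?_⟩
  · rw [← hw, ← hw']
    exact Scheme.Hom.comp_apply k'.left k.left w''
  · rw [ht, map_sub, et_map_map, et_map_map]
    have h5 : k' ≫ toTop W' = toTop W'' := by
      apply MorphismProperty.Over.Hom.ext
      exact (et_w k')
    rw [h5, add_sub_cancel]

variable {S' : ShortComplex (EtCoh.Ab X)} (hS' : S'.ShortExact) (φ : S ⟶ S')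

include hS' in
/-- Sections of `G` whose class dies in `N'`. -/
theorem exists_lift_of_class [Injective S.X₂] (h0 : ∀ x : HH X S.X₁ 1, HHmap φ.τ₁ 1 x = 0)
    (hS : S.ShortExact)
    (γ : EtCoh.sect ((EtCoh.push f).obj S.X₃) (EtCoh.top Y)) :
    ∃ η : EtCoh.sect ((EtCoh.push f).obj S'.X₂) (EtCoh.top Y),
      ((EtCoh.push f).map φ.τ₃).hom.app (op (EtCoh.top Y)) γ = ((EtCoh.push f).map S'.g).hom.app _ η := by
  obtain ⟨x, rfl⟩ := (H0 Y ((EtCoh.push f).obj S.X₃)).surjective γ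
  have h1 : dl hS' 0 (HHmap φ.τ₃ 0 (edg f S.X₃ 0 x)) = 0 := by
    rw [dl_nat hS hS' φ]
    exact h0 _
  obtain ⟨y, hy⟩ := exists_map_eq hS' 0 _ h1
  obtain ⟨y, rfl⟩ := (edg_zero_bijective f S'.X₂).2 y
  rw [← edg_map, ← edg_map] at hy
  have h2 := (edg_zero_bijective f S'.X₃).1 hy
  refine ⟨H0 Y _ y, ?_⟩
  rw [← H0_map, ← H0_map, h2]

include hS hS' e hY in
/-- The local lifting property. -/
theorem locBd [Injective S.X₂] (h0 : ∀ x : HH X S.X₁ 1, HHmap φ.τ₁ 1 x = 0) : LocBd f S' φ.τ₃ := by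
  intro W s w
  obtain ⟨W', k, w', γ, t, hw, h1⟩ := exists_gen f hS i e hY W s w
  obtain ⟨η, hη⟩ := exists_lift_of_class f hS' φ h0 hS γ
  refine ⟨W', k, w', ((EtCoh.push f).obj S'.X₂).obj.map (toTop W').op η +
    ((EtCoh.push f).map φ.τ₂).hom.app (op W') t, hw, ?_⟩
  have h2 := congrArg (fun r => ((EtCoh.push f).map φ.τ₃).hom.app (op W') r) h1
  have h3 : ((EtCoh.push f).map φ.τ₃).hom.app (op W') (((EtCoh.push f).obj S.X₃).obj.map k.op s) =
      S'.X₃.obj.map ((EtCoh.bc f).map k).op (φ.τ₃.hom.app (op ((EtCoh.bc f).obj W)) s) :=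
    map_app ((EtCoh.push f).map φ.τ₃) k s
  rw [← h3]
  refine Eq.trans ?_ h2.symm
  simp only [map_add]
  have h4 := map_app ((EtCoh.push f).map S'.g) (toTop W') η
  have h5 := map_app ((EtCoh.push f).map φ.τ₃) (toTop W') γ
  rw [h5, hη, ← h4]
  have h6 : ((EtCoh.push f).map S.g) ≫ (EtCoh.push f).map φ.τ₃ =
      (EtCoh.push f).map φ.τ₂ ≫ (EtCoh.push f).map S'.g := by
    rw [← Functor.map_comp, ← Functor.map_comp, φ.comm₂₃]
  have h7 := congrArg (fun ψ => ψ.hom.app (op W') t) h6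
  refine Eq.trans ?_ (congrArg (fun r => ((EtCoh.push f).map S'.g).hom.app (op W')
    (((EtCoh.push f).obj S'.X₂).obj.map (toTop W').op η) + r) h7.symm)
  exact map_add (S'.g.hom.app (op ((EtCoh.bc f).obj W'))).hom _ _

end Gen

end K726.LocGen
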