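import Groth.Agent.EtDual.K726.TwoRow
import Groth.Agent.EtpbcA.StalkTools
import Groth.Agent.EtpbcB.Big
import Groth.Agent.Sga4h.KerSect
import Groth.Agent.Sga4B.ConstLC

/-!
# Local lifting of sections of `f_* G`

* `LocBd f S' g`: for `g : G ⟶ S'.X₃`, sections of `f_* G` are mapped by `g` locally (on the target of `f`) into the
  image of `S'.X₂`; equivalent to the vanishing of `f_* G → f_* S'.X₃ → R¹ f_* S'.X₁`.
* `LocBd.of_comp`: descent along an étale monomorphism.
* `locBd_of_push_iso`: over a strictly local base, if `R¹ f_* N` is the push forward of a constant sheaf along a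
  closed immersion and `H¹(N) → H¹(N')` is zero.
-/

set_option autoImplicit false
set_option linter.unusedSectionVars false
universe u
open CategoryTheory CategoryTheory.Limits AlgebraicGeometry Opposite Abelian
open scoped Groth.Agent.Etcore.EtInst
open Groth.Agent.Etcore Groth.Agent.Etcore.EtInst

noncomputable section

namespace K726.LocSec

open Groth.Agent.Etbc.H194.Edge K726.LES Groth.Agent.Etcore.RpushLoc Groth.Agent.Etcore.HQ K726.TwoRow
open Groth.Agent.EtpbcB.EdgeLemma (Bc T kap shortExact_T π_kap mono_kap shortExact_K K)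
open Groth.Agent.EtpbcB.Big (et_w et_map_map) 
open Groth.Agent.Sga4B.ConstLC Groth.Agent Groth.Agent.Etcore.HpullCalc

attribute [local instance] Groth.Agent.Etcore.HQ.pfl push_pfl

/-- Local lifting of sections along an exact sequence of sheaves. -/
theorem exists_local_of_exact {Y : Scheme.{u}} {F G H : EtCoh.Ab Y} (f : F ⟶ G) (g : G ⟶ H) (w : f ≫ g = 0)
    (hS : (ShortComplex.mk f g w).Exact) (U : Y.Etale)
    (s : EtCoh.sect G U) (hs : g.hom.app (op U) s = 0) (x : U.left) :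
    ∃ (W : Y.Etale) (k : W ⟶ U) (w : W.left) (t : EtCoh.sect F W), k.left w = x ∧
      f.hom.app (op W) t = G.obj.map k.op s := by
  have h1 : Epi (kernel.lift g f w) := ((ShortComplex.mk f g w).exact_iff_epi_kernel_lift).1 hS
  obtain ⟨t₀, ht₀⟩ := Sga4h.KerSect.exists_kernel_section g U s hs
  obtain ⟨W, k, w', hw, t, ht⟩ := (EtpbcA.StalkTools.epi_iff_locIm _).1 h1 U t₀ x
  refine ⟨W, k, w', t, hw, ?_⟩
  have h4 : f.hom.app (op W) t = (kernel.ι g).hom.app (op W) ((kernel.lift g f w).hom.app (op W) t) := by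
    have h5 := congrArg (fun φ => φ.hom.app (op W) t) (kernel.lift_ι g f w)
    exact h5.symm
  rw [h4, ht, ← ht₀]
  exact ConcreteCategory.congr_hom ((kernel.ι g).hom.naturality k.op) t₀

variable {X Y : Scheme.{u}} (f : X ⟶ Y)

/-- `g` maps sections of `f_* G` locally into the image of `S'.X₂`. -/
def LocBd (S' : ShortComplex (EtCoh.Ab X)) {G : EtCoh.Ab X} (g : G ⟶ S'.X₃) : Prop :=
  ∀ (W : Y.Etale) (s : EtCoh.sect G ((EtCoh.bc f).obj W)) (w : W.left),
    ∃ (W' : Y.Etale) (k : W' ⟶ W) (w' : W'.left) (t : EtCoh.sect S'.X₂ ((EtCoh.bc f).obj W')), k.left w' = w ∧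
      S'.g.hom.app (op ((EtCoh.bc f).obj W')) t =
        S'.X₃.obj.map ((EtCoh.bc f).map k).op (g.hom.app (op ((EtCoh.bc f).obj W)) s)

theorem push_comp_pK (S' : ShortComplex (EtCoh.Ab X)) : (EtCoh.push f).map S'.g ≫ pK f S' = 0 := by
  rw [← π_kap, Category.assoc, cokernel.condition, comp_zero]

theorem LocBd.push_comp_pK_eq_zero {S' : ShortComplex (EtCoh.Ab X)} {G : EtCoh.Ab X} {g : G ⟶ S'.X₃}
    (h : LocBd f S' g) : (EtCoh.push f).map g ≫ pK f S' = 0 := by
  apply Sheaf.hom_ext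
  ext W s
  change ((EtCoh.push f).map g ≫ pK f S').hom.app (op W.unop) s = 0
  refine Etrest.Site0.eq_zero_of_local (Kc f S') W.unop _ fun w => ?_
  obtain ⟨W', k, w', t, hw, ht⟩ := h W.unop s w
  refine ⟨W', k, ⟨w', hw⟩, ?_⟩
  have h1 := ConcreteCategory.congr_hom ((pK f S').hom.naturality k.op)
    (((EtCoh.push f).map g).hom.app (op W.unop) s)
  refine h1.symm.trans ?_
  have h2 := congrArg (fun φ => φ.hom.app (op W') t) (push_comp_pK f S')
  refine Eq.trans ?_ h2
  exact congrArg ((pK f S').hom.app (op W')) ht.symm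

section Bc

/-- Morphisms into the base change. -/
def bcLift {T : X.Etale} {W : Y.Etale} (p : T.left ⟶ W.left) (h : p ≫ W.hom = T.hom ≫ f) :
    T ⟶ (EtCoh.bc f).obj W :=
  MorphismProperty.Over.homMk (pullback.lift p T.hom h) (pullback.lift_snd _ _ _)

/-- The projection. -/
abbrev bf (W : Y.Etale) : ((EtCoh.bc f).obj W).left ⟶ W.left := pullback.fst W.hom f

theorem bcLift_fst {T : X.Etale} {W : Y.Etale} (p : T.left ⟶ W.left) (h : p ≫ W.hom = T.hom ≫ f) :
    (bcLift f p h).left ≫ bf f W = p := pullback.lift_fst _ _ _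

theorem bf_hom (W : Y.Etale) : bf f W ≫ W.hom = ((EtCoh.bc f).obj W).hom ≫ f := pullback.condition

theorem bc_hom_ext {T : X.Etale} {W : Y.Etale} {a b : T ⟶ (EtCoh.bc f).obj W}
    (h : a.left ≫ bf f W = b.left ≫ bf f W) : a = b := by
  apply MorphismProperty.Over.Hom.ext
  refine pullback.hom_ext h ?_
  exact (et_w a).trans (et_w b).symm

theorem map_bf {W W' : Y.Etale} (k : W' ⟶ W) : ((EtCoh.bc f).map k).left ≫ bf f W = bf f W' ≫ k.left :=
  (EtCoh.isPullback_bc_map f k).w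

end Bc

section OfComp

variable {Z : Scheme.{u}} (ι : Y ⟶ Z) [Etale ι] [Mono ι]

/-- Descent of `LocBd` along an étale monomorphism. -/
theorem LocBd.of_comp {S' : ShortComplex (EtCoh.Ab X)} {G : EtCoh.Ab X} {g : G ⟶ S'.X₃}
    (h : LocBd (f ≫ ι) S' g) : LocBd f S' g := by
  intro W s w
  let WZ : Z.Etale := Scheme.Etale.mk (W.hom ≫ ι)
  let α : (EtCoh.bc (f ≫ ι)).obj WZ ⟶ (EtCoh.bc f).obj W := bcLift f (bf (f ≫ ι) WZ) (by
    rw [← cancel_mono ι, Category.assoc, Category.assoc]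
    exact bf_hom (f ≫ ι) WZ)
  obtain ⟨W', k, w', t, hw, ht⟩ := h WZ (G.obj.map α.op s) w
  have hk : k.left ≫ W.hom ≫ ι = W'.hom := et_w k
  let q : W'.left ⟶ Y := k.left ≫ W.hom
  have hq : q ≫ ι = W'.hom := by rw [Category.assoc]; exact hk
  have hqe : Etale q := by
    have : Etale (q ≫ ι) := by rw [hq]; exact W'.prop
    exact Etale.of_comp q ι
  let WY : Y.Etale := Scheme.Etale.mk q
  let kY : WY ⟶ W := MorphismProperty.Over.homMk k.left rfl
  let β : (EtCoh.bc f).obj WY ⟶ (EtCoh.bc (f ≫ ι)).obj W' := bcLift (f ≫ ι) (bf f WY) (by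
    have h1 : bf f WY ≫ q = ((EtCoh.bc f).obj WY).hom ≫ f := bf_hom f WY
    rw [← hq]
    exact (Category.assoc _ _ _).symm.trans ((congrArg (fun r => r ≫ ι) h1).trans (Category.assoc _ _ _)))
  have hβ : β ≫ (EtCoh.bc (f ≫ ι)).map k ≫ α = (EtCoh.bc f).map kY := by
    apply bc_hom_ext
    have h2 : α.left ≫ bf f W = bf (f ≫ ι) WZ := bcLift_fst f _ _
    have h3 : ((EtCoh.bc (f ≫ ι)).map k).left ≫ bf (f ≫ ι) WZ = bf (f ≫ ι) W' ≫ k.left := map_bf (f ≫ ι) k
    have h4 : β.left ≫ bf (f ≫ ι) W' = bf f WY := bcLift_fst (f ≫ ι) _ _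
    have h5 : ((EtCoh.bc f).map kY).left ≫ bf f W = bf f WY ≫ k.left := map_bf f kY
    exact (Category.assoc β.left _ _).trans ((congrArg (fun r => β.left ≫ r) ((Category.assoc _ _ _).trans
      ((congrArg (fun r => ((EtCoh.bc (f ≫ ι)).map k).left ≫ r) h2).trans h3))).trans
        (((Category.assoc _ _ _).symm.trans (congrArg (fun r => r ≫ k.left) h4)).trans h5.symm))
  refine ⟨WY, kY, w', S'.X₂.obj.map β.op t, hw, ?_⟩
  have h6 := ConcreteCategory.congr_hom (S'.g.hom.naturality β.op) t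
  refine h6.trans ?_
  have h7 := ConcreteCategory.congr_hom (g.hom.naturality α.op) s
  change S'.X₃.obj.map β.op (S'.g.hom.app (op ((EtCoh.bc (f ≫ ι)).obj W')) t) = _
  rw [ht]
  have h8 : g.hom.app (op ((EtCoh.bc (f ≫ ι)).obj WZ)) (G.obj.map α.op s) =
    S'.X₃.obj.map α.op (g.hom.app (op ((EtCoh.bc f).obj W)) s) := h7
  rw [h8, et_map_map, et_map_map, Category.assoc, hβ]

end OfComp

end K726.LocSec
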