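import Groth.Agent.EtDual.K3.DivPunc
import Groth.Agent.EtDual.K734.Cov
import Groth.Agent.EtDual.K734.Dev
import Groth.Agent.EtDual.K734.DevP
import Groth.Agent.EtDual.K726.Core
import Groth.Agent.EtDual.K726.Iface
import Groth.Agent.Etbase.QuotHens
import Groth.Agent.S0073

/-!
# The strictly local inputs of the Kummer induction

For a strictly henselian regular local ring `A` with `ℓ ∈ Aˣ` and `t ∈ 𝔪 ∖ 𝔪²`:
`H⁰(Spec A[1/t], ℤ/ℓ)` and `H¹(Spec A[1/t], ℤ/ℓ)` have `ℓ` elements.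
-/

set_option autoImplicit false
set_option linter.unusedSectionVars false
universe u
open CategoryTheory CategoryTheory.Limits AlgebraicGeometry Opposite Abelian IsLocalRing
open scoped Groth.Agent.Etcore.EtInst
open Groth.Agent.Etcore Groth.Agent.Etcore.EtInst

noncomputable section

namespace K726.MainA

open Groth.Agent.Etbc.H194.Edge K726.LES Groth.Agent.Etcore.RpushLoc K726.TwoRow K726.LocSec
open Groth.Agent.Sga4B.ConstLC Groth.Agent
open Groth.Agent.EtpbcB.EdgeLemma (Bc T kap shortExact_T π_kap mono_kap shortExact_K K)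

attribute [local instance] Groth.Agent.Etcore.HQ.pfl push_pfl

section General

theorem nonempty_HH_of_iso {X : Scheme.{u}} {F G : EtCoh.Ab X} (e : F ≅ G) (n : ℕ) :
    Nonempty (HH X F n ≃+ HH X G n) :=
  ⟨AddEquiv.ofBijective (HHmap e.hom n) (HHmap_bijective e.hom n)⟩

/-- `Kc` is `R¹ f_*`. -/
theorem nonempty_Kc {X Y : Scheme.{u}} (f : X ⟶ Y) {S : ShortComplex (EtCoh.Ab X)} (hS : S.ShortExact)
    [Injective S.X₂] : Nonempty (Kc f S ≅ (EtCoh.Rpush f 1).obj S.X₁) := by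
  obtain ⟨e⟩ := DerLES.nonempty_iso_one_of_injective (EtCoh.push f) hS
  have h : (EtCoh.push f).map S.g = cokernel.π ((EtCoh.push f).map S.f) ≫ kap (EtCoh.push f) S :=
    (π_kap (R := EtCoh.push f)).symm
  exact ⟨(cokernelEpiComp (cokernel.π ((EtCoh.push f).map S.f)) (kap (EtCoh.push f) S)).symm ≪≫
    (cokernelIsoOfEq h).symm ≪≫ e.symm⟩

theorem card_sect_LC (X : Scheme.{u}) [ConnectedSpace X] (M : Type (u + 1)) [AddCommGroup M] :
    Nat.card (HH X (LC X M) 0) = Nat.card M := by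
  have h1 : Function.Bijective (fun m : M => (LocallyConstant.const X m : LocallyConstant X M)) := by
    constructor
    · intro a b h
      obtain ⟨x⟩ := (inferInstance : Nonempty X)
      exact congrArg (fun k => k x) h
    · intro c
      obtain ⟨m, hm⟩ := c.exists_eq_const
      exact ⟨m, hm.symm⟩
  exact (Nat.card_congr (HpullCalc.H0 X (LC X M)).toEquiv).trans (Nat.card_congr (Equiv.ofBijective _ h1)).symm

/-- For connected `T`, `H⁰(U, M) → H⁰(U, π_* M)` is surjective. -/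
theorem surjective_zero {T U : Scheme.{u}} (π : T ⟶ U) [ConnectedSpace T] (M : Type (u + 1)) [AddCommGroup M] :
    Function.Surjective (HHmap (LCres π M) 0) := by
  intro y
  have hid : IsIso (EtCoh.top U).hom := inferInstanceAs (IsIso (𝟙 U))
  have hi : IsIso (pullback.snd (EtCoh.top U).hom π) := inferInstanceAs (IsIso (pullback.snd (𝟙 U) π))
  let P : Scheme.{u} := ((EtCoh.bc π).obj (EtCoh.top U)).left
  let h : P ≅ T := @asIso _ _ _ _ (pullback.snd (EtCoh.top U).hom π) hi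
  have hP : PreconnectedSpace P := h.schemeIsoToHomeo.symm.surjective.denseRange.preconnectedSpace
    h.schemeIsoToHomeo.symm.continuous
  have hP' : Nonempty P := ⟨h.inv (Classical.arbitrary T)⟩
  let c : LocallyConstant P M := HpullCalc.H0 U ((EtCoh.push π).obj (LC T M)) y
  obtain ⟨m, hm⟩ := c.exists_eq_const
  let d : EtCoh.sect (LC U M) (EtCoh.top U) := (LocallyConstant.const (EtCoh.top U).left m)
  refine ⟨(HpullCalc.H0 U (LC U M)).symm d, ?_⟩
  apply (HpullCalc.H0 U ((EtCoh.push π).obj (LC T M))).injective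
  rw [HpullCalc.H0_map, AddEquiv.apply_symm_apply]
  exact hm.symm

end General

section Local

variable {A : Type u} [CommRing A] [IsRegularLocalRing A] (hA : EtCoh.IsStrictlyHenselianLocalRing A) (ℓ : ℕ)
  (hl0 : 0 < ℓ) (hl : IsUnit (ℓ : A)) (t : A) (ht : t ∈ maximalIdeal A) (ht2 : t ∉ maximalIdeal A ^ 2)

include hA in
theorem eq_zero_spec (F : EtCoh.Ab (Spec (CommRingCat.of A))) (x : HH (Spec (CommRingCat.of A)) F 1) : x = 0 := by
  obtain ⟨h1, h2⟩ := hA
  have h3 := Groth.Agent.S0073.result A F 1 le_rfl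
  exact (subsingleton_iff F 1).1 h3 x

/-- The constant sheaf on `V`. -/
abbrev L (ℓ : ℕ) (X : Scheme.{u}) : EtCoh.Ab X := LC X (ULift.{u + 1} (ZMod ℓ))

include hA hl0 hl ht ht2 in
theorem nonempty_iso_X (j : K734.Cov.V t ⟶ Spec (CommRingCat.of A)) (hj : j = K3.DivPunc.opn t) :
    Nonempty (Kc j (injSeq (L ℓ (K734.Cov.V t))) ≅
      (EtCoh.push (K3.PureVan.clo t)).obj (L ℓ (Spec (CommRingCat.of (A ⧸ Ideal.span {t}))))) := by
  subst hj
  have ht0 := K734.Cov.ne_zero t ht2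
  have hr := (CalgA.RegBasic.quotient_of_notMem_sq t ht ht2).1
  obtain ⟨e1⟩ := nonempty_Kc (K3.DivPunc.opn t) (injSeq_shortExact (L ℓ (K734.Cov.V t)))
  obtain ⟨e2⟩ := K3.DivPunc.nonempty_Rpush_one_opn t hA ℓ hl0 hl ht0
  exact ⟨e1 ≪≫ (EtCoh.Rpush (K3.DivPunc.opn t) 1).mapIso (constIso (K734.Cov.V t) (ZMod ℓ)).symm ≪≫ e2 ≪≫
    (EtCoh.push (K3.PureVan.clo t)).mapIso (constIso _ (ZMod ℓ))⟩

include hA hl0 hl ht ht2 in
/-- `H¹(Spec A[1/t], ℤ/ℓ)` has `ℓ` elements. -/
theorem card_one : Nat.card (HH (K734.Cov.V t) (L ℓ (K734.Cov.V t)) 1) = ℓ := by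
  obtain ⟨e1⟩ := nonempty_iso_X hA ℓ hl0 hl t ht ht2 _ rfl
  obtain ⟨e2⟩ := nonempty_equiv (K3.DivPunc.opn t) (injSeq_shortExact (L ℓ (K734.Cov.V t))) (eq_zero_spec hA)
  obtain ⟨e3⟩ := nonempty_HH_of_iso e1 0
  obtain ⟨e4⟩ := K3.DivPunc.nonempty_H_push (K3.PureVan.clo t) (L ℓ (Spec (CommRingCat.of (A ⧸ Ideal.span {t})))) 0
  have hr := (CalgA.RegBasic.quotient_of_notMem_sq t ht ht2).1
  have hd : IsDomain (A ⧸ Ideal.span {t}) := CalgA.RegBasic.isDomain _
  have hc : ConnectedSpace (Spec (CommRingCat.of (A ⧸ Ideal.span {t}))) := by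
    have : IsIntegral (Spec (CommRingCat.of (A ⧸ Ideal.span {t}))) := inferInstance
    infer_instance
  have h1 := card_sect_LC (Spec (CommRingCat.of (A ⧸ Ideal.span {t}))) (ULift.{u + 1} (ZMod ℓ))
  have h2 : Nat.card (ULift.{u + 1} (ZMod ℓ)) = ℓ := by
    rw [Nat.card_congr Equiv.ulift, Nat.card_zmod]
  exact (Nat.card_congr e2.toEquiv).trans ((Nat.card_congr e3.toEquiv).trans
    ((Nat.card_congr e4.toEquiv).trans (h1.trans h2)))

end Local

end K726.MainA
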