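import Groth.Agent.EtDual.K726.LES

/-!
# Leray with two rows

`f : X ⟶ Y`, `0 → N → I → G → 0` with `I` injective and `R^q f_* N = 0` for `q ≥ 2`; `K = R¹ f_* N` is the
cokernel of `kap : Bc → f_* G`.
-/

set_option autoImplicit false
set_option linter.unusedSectionVars false
universe u
open CategoryTheory CategoryTheory.Limits AlgebraicGeometry Opposite Abelian
open scoped Groth.Agent.Etcore.EtInst
open Groth.Agent.Etcore Groth.Agent.Etcore.EtInst

noncomputable section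

namespace K726.TwoRow

open Groth.Agent.Etbc.H194.Edge K726.LES Groth.Agent.Etcore.RpushLoc Groth.Agent.Etcore.HQ
open Groth.Agent.EtpbcB.EdgeLemma (Bc T kap shortExact_T π_kap mono_kap shortExact_K K)

/-- Morphisms extend to injective sequences. -/
theorem exists_hom {C : Type*} [Category* C] [Abelian C] {S S' : ShortComplex C} (hS : S.ShortExact)
    [Injective S'.X₂] (u : S.X₁ ⟶ S'.X₁) : ∃ φ : S ⟶ S', φ.τ₁ = u := by
  have hm : Mono S.f := hS.mono_f
  have he : Epi S.g := hS.epi_g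
  let v : S.X₂ ⟶ S'.X₂ := Injective.factorThru (u ≫ S'.f) S.f
  have hv : S.f ≫ v = u ≫ S'.f := Injective.comp_factorThru _ _
  have hw : S.f ≫ v ≫ S'.g = 0 := by rw [← Category.assoc, hv, Category.assoc, S'.zero, comp_zero]
  exact ⟨⟨u, v, hS.exact.desc (v ≫ S'.g) hw, hv.symm, (hS.exact.g_desc _ _).symm⟩, rfl⟩

attribute [local instance] pfl push_pfl

variable {X Y : Scheme.{u}} (f : X ⟶ Y)

/-- The sheaf `R¹ f_* N` attached to a short exact sequence `0 → N → I → G → 0`. -/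
abbrev Kc (S : ShortComplex (EtCoh.Ab X)) : EtCoh.Ab Y := cokernel (kap (EtCoh.push f) S)

variable {S : ShortComplex (EtCoh.Ab X)} (hS : S.ShortExact)

include hS in
theorem shortExactK : (K (EtCoh.push f) S).ShortExact := shortExact_K (R := EtCoh.push f) hS

/-- The connecting map of the `K`-sequence. -/
def dK (n : ℕ) : HH Y (Kc f S) n →+ HH Y (Bc (EtCoh.push f) S) (n + 1) := dl (shortExactK f hS) n

/-- The projection to `K`. -/
abbrev pK (S : ShortComplex (EtCoh.Ab X)) : (EtCoh.push f).obj S.X₃ ⟶ Kc f S :=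
  cokernel.π (kap (EtCoh.push f) S)

section Inj

variable [Injective S.X₂]

theorem δT_injective (n : ℕ) : Function.Injective (δT f hS (n + 1)) := by
  rw [injective_iff_map_eq_zero]
  intro x hx
  obtain ⟨y, hy⟩ := exists_map_eq (shortExact_T (R := EtCoh.push f) hS) (n + 1) x hx
  have := push_injective f S.X₂
  have h1 : y = 0 := eq_zero_of_inj (X := Y) ((EtCoh.push f).obj S.X₂) n y
  rw [← hy, h1, map_zero]

include hS in
theorem locZero_X₃ (hN : ∀ q, 2 ≤ q → LocZero f S.X₁ q) (q : ℕ) (hq : 1 ≤ q) : LocZero f S.X₃ q := by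
  obtain ⟨q, rfl⟩ : ∃ q', q = q' + 1 := ⟨q - 1, by omega⟩
  exact locZero_of_succ f hS (q + 1) (fun V x => HQ.eq_zero_of_injective _ _ q x) (hN _ (by omega))

include hS in
theorem edg_bijective (hN : ∀ q, 2 ≤ q → LocZero f S.X₁ q) (n : ℕ) : Function.Bijective (edg f S.X₃ n) :=
  (edg_low f n S.X₃ fun q hq _ => locZero_X₃ f hS hN q hq).1 n le_rfl

theorem dl_injective' (n : ℕ) : Function.Injective (dl hS (n + 1)) :=
  dl_injective hS (n + 1) fun x => by rw [eq_zero_of_inj _ n x, map_zero]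

include hS in
/-- `(R1)`: `H^(n+2)(Y, f_* N) = 0` and `H^(n+1)(Y, R¹ f_* N) = 0` imply `H^(n+2)(X, N) = 0`. -/
theorem van (hN : ∀ q, 2 ≤ q → LocZero f S.X₁ q) (n : ℕ)
    (h1 : ∀ x : HH Y ((EtCoh.push f).obj S.X₁) (n + 2), x = 0) (h2 : ∀ x : HH Y (Kc f S) (n + 1), x = 0)
    (x : HH X S.X₁ (n + 2)) : x = 0 := by
  have h3 : ∀ x : HH Y (Bc (EtCoh.push f) S) (n + 1), x = 0 := fun x =>
    δT_injective f hS n ((h1 _).trans (map_zero _).symm)
  have h4 : ∀ x : HH Y ((EtCoh.push f).obj S.X₃) (n + 1), x = 0 := zero_mid (shortExactK f hS) (n + 1) h3 h2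
  obtain ⟨y, rfl⟩ := exists_dl_eq hS (n + 1) x (eq_zero_of_inj _ (n + 1) _)
  obtain ⟨z, rfl⟩ := (edg_bijective f hS hN (n + 1)).2 y
  rw [h4 z, map_zero, map_zero]

include hS in
/-- `(R3)`: the top degrees. -/
theorem top (hN : ∀ q, 2 ≤ q → LocZero f S.X₁ q) (n : ℕ) (h1 : ∀ x : HH X S.X₁ (n + 2), x = 0)
    (h2 : ∀ x : HH Y (Kc f S) (n + 2), x = 0) [Finite (HH Y ((EtCoh.push f).obj S.X₁) (n + 3))]
    (hc : Nat.card (HH Y ((EtCoh.push f).obj S.X₁) (n + 3)) ≤ Nat.card (HH Y (Kc f S) (n + 1))) :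
    (∀ x : HH X S.X₁ (n + 3), x = 0) ∧
      Nat.card (HH Y ((EtCoh.push f).obj S.X₁) (n + 3)) = Nat.card (HH Y (Kc f S) (n + 1)) := by
  have h3 : ∀ x : HH Y ((EtCoh.push f).obj S.X₃) (n + 1), x = 0 := by
    intro x
    apply (edg_bijective f hS hN (n + 1)).1
    rw [map_zero]
    apply dl_injective' hS n
    rw [map_zero]
    exact h1 _
  have h4 : Function.Injective (dK f hS (n + 1)) :=
    dl_injective (shortExactK f hS) (n + 1) fun x => by
      rw [h3 x, map_zero]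
  have h5 : Function.Injective (δT f hS (n + 2)) := δT_injective f hS (n + 1)
  have h6 : Function.Bijective (⇑(δT f hS (n + 2)) ∘ ⇑(dK f hS (n + 1))) :=
    Function.Injective.bijective_of_nat_card_le (h5.comp h4) hc
  have h7 : Function.Surjective (dK f hS (n + 1)) := by
    intro y
    obtain ⟨x, hx⟩ := h6.2 (δT f hS (n + 2) y)
    exact ⟨x, h5 hx⟩
  refine ⟨fun x => ?_, (Nat.card_congr (Equiv.ofBijective _ h6)).symm⟩
  have h8 : ∀ x : HH Y ((EtCoh.push f).obj S.X₃) (n + 2), x = 0 := by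
    intro x
    obtain ⟨y, rfl⟩ := ex2 (shortExactK f hS) (n + 2) x (h2 _)
    obtain ⟨z, rfl⟩ := h7 y
    exact map_dl (shortExactK f hS) (n + 1) z
  obtain ⟨y, rfl⟩ := exists_dl_eq hS (n + 2) x (eq_zero_of_inj _ (n + 2) _)
  obtain ⟨z, rfl⟩ := (edg_bijective f hS hN (n + 2)).2 y
  rw [h8 z, map_zero, map_zero]

end Inj

section C4

variable {S' : ShortComplex (EtCoh.Ab X)} (hS' : S'.ShortExact) (φ : S ⟶ S')

include hS hS' in
/-- `(C4)`: if `R¹ f_* (u) = 0` and `H^(n+2)(Y, f_* N') = 0` then `H^(n+2)(X, N) → H^(n+2)(X, N')` is zero. -/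
theorem map_zero_of [Injective S.X₂] (hN : ∀ q, 2 ≤ q → LocZero f S.X₁ q) (n : ℕ)
    (hE : ∀ x : HH Y ((EtCoh.push f).obj S'.X₁) (n + 2), x = 0)
    (hk : (EtCoh.push f).map φ.τ₃ ≫ pK f S' = 0) (x : HH X S.X₁ (n + 2)) : HHmap φ.τ₁ (n + 2) x = 0 := by
  obtain ⟨y, rfl⟩ := exists_dl_eq hS (n + 1) x (eq_zero_of_inj _ (n + 1) _)
  obtain ⟨z, rfl⟩ := (edg_bijective f hS hN (n + 1)).2 y
  have := mono_kap (R := EtCoh.push f) hS'
  let w : (EtCoh.push f).obj S.X₃ ⟶ Bc (EtCoh.push f) S' := Abelian.monoLift (kap (EtCoh.push f) S') _ hk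
  have hw : w ≫ kap (EtCoh.push f) S' = (EtCoh.push f).map φ.τ₃ := Abelian.monoLift_comp _ _ _
  rw [← dl_nat hS hS' φ, ← edg_map, ← hw, HHmap_comp]
  refine (edg_δT f hS' (n + 1) _).symm.trans ?_
  rw [hE (δT f hS' (n + 1) _), map_zero]

end C4

section One

variable [Injective S.X₂]

/-- `H¹(X, N) = H⁰(Y, R¹ f_* N)` if all `H¹(Y, F)` vanish. -/
theorem dl_edg_eq_zero_iff (hY : ∀ (F : EtCoh.Ab Y) (x : HH Y F 1), x = 0)
    (x : HH Y ((EtCoh.push f).obj S.X₃) 0) : dl hS 0 (edg f S.X₃ 0 x) = 0 ↔ HHmap (pK f S) 0 x = 0 := by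
  constructor
  · intro h
    obtain ⟨y, hy⟩ := exists_map_eq hS 0 _ h
    obtain ⟨y, rfl⟩ := (edg_zero_bijective f S.X₂).2 y
    rw [← edg_map] at hy
    rw [← (edg_zero_bijective f S.X₃).1 hy, ← π_kap, HHmap_comp]
    exact map_map (shortExactK f hS) 0 _
  · intro h
    obtain ⟨y, rfl⟩ := ex2 (shortExactK f hS) 0 x h
    refine (edg_δT f hS 0 y).symm.trans ?_
    rw [hY _ (δT f hS 0 y), map_zero]

omit [Injective S.X₂] in
theorem surjective_pK (hY : ∀ (F : EtCoh.Ab Y) (x : HH Y F 1), x = 0) (hS : S.ShortExact) :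
    Function.Surjective (HHmap (pK f S) 0) := fun x =>
  exists_map_eq (shortExactK f hS) 0 x (hY _ _)

theorem surjective_dl_edg : Function.Surjective (fun x => dl hS 0 (edg f S.X₃ 0 x)) := by
  intro x
  obtain ⟨y, rfl⟩ := exists_dl_eq hS 0 x (eq_zero_of_inj _ 0 _)
  obtain ⟨z, rfl⟩ := (edg_zero_bijective f S.X₃).2 y
  exact ⟨z, rfl⟩

include hS in
theorem nonempty_equiv (hY : ∀ (F : EtCoh.Ab Y) (x : HH Y F 1), x = 0) :
    Nonempty (HH X S.X₁ 1 ≃+ HH Y (Kc f S) 0) := by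
  let p : HH Y ((EtCoh.push f).obj S.X₃) 0 →+ HH X S.X₁ 1 := (dl hS 0).comp (edg f S.X₃ 0)
  let q : HH Y ((EtCoh.push f).obj S.X₃) 0 →+ HH Y (Kc f S) 0 := HHmap (pK f S) 0
  have hk : p.ker = q.ker := by
    ext x
    rw [AddMonoidHom.mem_ker, AddMonoidHom.mem_ker]
    exact dl_edg_eq_zero_iff f hS hY x
  have hp : Function.Surjective p := surjective_dl_edg f hS
  have hq : Function.Surjective q := surjective_pK f hY hS
  exact ⟨(QuotientAddGroup.quotientKerEquivOfSurjective p hp).symm.trans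
    ((QuotientAddGroup.quotientAddEquivOfEq hk).trans (QuotientAddGroup.quotientKerEquivOfSurjective q hq))⟩

end One

end K726.TwoRow
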